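import Groth.Agent.Lib.BigEt.Compare
import Groth.Agent.Lib.SheafCoh.Compare
import Mathlib.CategoryTheory.Sites.ConstantSheaf
import Mathlib.Algebra.Category.Grp.ForgetCorepresentable

/-! Cohomology over the objects of the big etale site as a presheaf. -/

set_option autoImplicit false
universe u

open CategoryTheory CategoryTheory.Limits AlgebraicGeometry Opposite

set_option backward.isDefEq.respectTransparency.types false

noncomputable section

namespace GrothLib.EtDesc19

variable {S : Scheme.{u}} (K : Precoverage Scheme.{u})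

local notation "AbK" => BigSite.Ab K S

/-- `ℤ_U`: the shriek of the constant sheaf. -/
def R₀ (U : Over S) : AbK :=
  (BigSite.shriekAb K U.hom).obj
    ((constantSheaf (QuotSh.J K U.left) AddCommGrpCat.{u + 1}).obj (AddCommGrpCat.of (ULift.{u + 1} ℤ)))

/-- Maps out of `ℤ_U` as sections of the restriction. -/
def secEquiv₀ (U : Over S) (G : AbK) : (R₀ K U ⟶ G) ≃+
    ((BigSite.pullBig K U.hom AddCommGrpCat.{u + 1}).obj G).obj.obj (op (Over.mk (𝟙 U.left))) :=
  haveI : (BigSite.shriekAb K U.hom).Additive := (BigSite.shriekAbAdj K U.hom).left_adjoint_additive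
  haveI : ((sheafSections (QuotSh.J K U.left) AddCommGrpCat.{u + 1}).obj
      (op (Over.mk (𝟙 U.left)))).Additive :=
    { map_add := by intros; rfl }
  haveI : (constantSheaf (QuotSh.J K U.left) AddCommGrpCat.{u + 1}).Additive :=
    (constantSheafAdj (QuotSh.J K U.left) AddCommGrpCat.{u + 1}
      (Over.mkIdTerminal (X := U.left))).left_adjoint_additive
  ((BigSite.shriekAbAdj K U.hom).homAddEquiv _ G).trans
    (((constantSheafAdj (QuotSh.J K U.left) AddCommGrpCat.{u + 1}
        (Over.mkIdTerminal (X := U.left))).homAddEquiv _ _).trans (AddCommGrpCat.uliftZMultiplesAddEquiv _))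

/-- The image of the terminal object is the object. -/
def mapTopIso (U : Over S) : (Over.map U.hom).obj (Over.mk (𝟙 U.left)) ≅ U :=
  Over.isoMk (Iso.refl _) (by simp)

/-- Maps out of `ℤ_U` as sections over `U`. -/
def secEquiv (U : Over S) (G : AbK) : (R₀ K U ⟶ G) ≃+ G.obj.obj (op U) :=
  (secEquiv₀ K U G).trans (G.obj.mapIso (mapTopIso U).symm.op).addCommGroupIsoToAddEquiv

lemma secEquiv_comp (U : Over S) {G G' : AbK} (φ : R₀ K U ⟶ G) (g : G ⟶ G') :
    secEquiv K U G' (φ ≫ g) = (g.hom.app (op U)).hom (secEquiv K U G φ) := by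
  have h0 : secEquiv₀ K U G' (φ ≫ g) =
      ((BigSite.pullBig K U.hom AddCommGrpCat.{u + 1}).map g).hom.app _ (secEquiv₀ K U G φ) := by
    let T := constantSheafAdj (QuotSh.J K U.left) AddCommGrpCat.{u + 1}
      (Over.mkIdTerminal (X := U.left))
    change AddCommGrpCat.uliftZMultiplesAddEquiv _
        (T.homEquiv _ _ ((BigSite.shriekAbAdj K U.hom).homEquiv _ G' (φ ≫ g))) = _
    rw [(BigSite.shriekAbAdj K U.hom).homEquiv_naturality_right φ g, T.homEquiv_naturality_right]
    rfl
  change (G'.obj.mapIso (mapTopIso U).symm.op).hom (secEquiv₀ K U G' (φ ≫ g)) = _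
  rw [h0]
  exact (ConcreteCategory.congr_hom (g.hom.naturality (mapTopIso U).symm.op.hom) (secEquiv₀ K U G φ)).symm

/-- The universal section. -/
def univSec (U : Over S) : (R₀ K U).obj.obj (op U) := secEquiv K U _ (𝟙 _)

lemma secEquiv_eq (U : Over S) {G : AbK} (φ : R₀ K U ⟶ G) :
    secEquiv K U G φ = (φ.hom.app (op U)).hom (univSec K U) := by
  rw [univSec, ← secEquiv_comp, Category.id_comp]

/-- `U ↦ ℤ_U`. -/
def R : Over S ⥤ AbK where
  obj := R₀ K
  map {V U} a := (secEquiv K V _).symm (((R₀ K U).obj.map a.op).hom (univSec K U))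
  map_id U := (secEquiv K U _).injective (by
    rw [AddEquiv.apply_symm_apply, op_id, CategoryTheory.Functor.map_id]
    rfl)
  map_comp {W V U} a b := (secEquiv K W _).injective (by
    rw [AddEquiv.apply_symm_apply, secEquiv_comp, AddEquiv.apply_symm_apply, op_comp,
      CategoryTheory.Functor.map_comp]
    refine Eq.trans ?_ (ConcreteCategory.congr_hom
      (((secEquiv K V (R₀ K U)).symm (((R₀ K U).obj.map b.op).hom (univSec K U))).hom.naturality a.op)
      (univSec K V)).symm
    change ((R₀ K U).obj.map a.op).hom (((R₀ K U).obj.map b.op).hom (univSec K U)) =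
      ((R₀ K U).obj.map a.op).hom _
    refine congrArg _ ?_
    exact ((secEquiv K V (R₀ K U)).apply_symm_apply _).symm.trans (secEquiv_eq K V _))

/-- `U ↦ Ext^q(ℤ_U, P)`. -/
def cohPsh (P : AbK) (q : ℕ) : (Over S)ᵒᵖ ⥤ AddCommGrpCat.{u + 1} :=
  (R K).op ⋙ (Abelian.extFunctor q).flip.obj P

theorem nonempty_cohPsh_equiv (P : AbK) (q : ℕ) (U : Over S) :
    Nonempty (((cohPsh K P q).obj (op U)) ≃+ BigSite.HU K P q U) := by
  haveI : (BigSite.shriekAb K U.hom).Additive := (BigSite.shriekAbAdj K U.hom).left_adjoint_additive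
  refine SheafCoh.nonempty_ext_addEquiv (BigSite.pullBig K U.hom AddCommGrpCat.{u + 1}) _ _
    (fun G => (BigSite.shriekAbAdj K U.hom).homAddEquiv _ G)
    (fun g a => ?_) (fun X hX => ?_) (fun I hI m => ?_) q P
  · exact (BigSite.shriekAbAdj K U.hom).homEquiv_naturality_right a g
  · haveI := BigEt.preservesFiniteLimits_pullBig U.hom K
    haveI := BigEt.preservesFiniteColimits_pullBig U.hom K
    exact hX.map_of_exact _
  · haveI := hI
    haveI := BigEt.injective_pullBig U.hom K I
    exact Abelian.Ext.subsingleton_of_injective _ _ _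

end GrothLib.EtDesc19
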