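import Groth.Agent.Lib.EtDesc19.IntegralCx
import Groth.Agent.Lib.BigEt.Fppf.Main
import Mathlib.Algebra.Category.Grp.FilteredColimits
import Mathlib.CategoryTheory.Sites.LocallySurjective

/-!
# The Čech resolution of fppf sheaves along a flat surjective morphism locally of finite presentation
-/

set_option autoImplicit false
universe u

open CategoryTheory CategoryTheory.Limits AlgebraicGeometry Opposite
open GrothLib.BigEt.Fppf

set_option backward.isDefEq.respectTransparency.types false
set_option backward.isDefEq.respectTransparency false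

noncomputable section

namespace GrothLib.EtDesc19

variable {X Y : Scheme.{u}} (f : X ⟶ Y)

/-- Base change to a fibre power, as schemes over the base. -/
abbrev jFun (n : ℕ) : Over Y ⥤ Over Y := Over.pullback (nvπ f n) ⋙ Over.map (nvπ f n)

/-- Base change of a map of fibre powers. -/
def jMap {n m : ℕ} (g : Fin (n + 1) → Fin (m + 1)) : jFun f m ⟶ jFun f n where
  app U := Over.homMk
    (pullback.lift (pullback.fst U.hom (nvπ f m)) (pullback.snd U.hom (nvπ f m) ≫ idxMap f g)
      (pullback.condition.trans ((congrArg (_ ≫ ·) (idxMap_base f g).symm).trans (Category.assoc _ _ _).symm)))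
    ((Category.assoc _ _ _).symm.trans ((congrArg (· ≫ nvπ f n) (pullback.lift_snd _ _ _)).trans
      ((Category.assoc _ _ _).trans (congrArg (_ ≫ ·) (idxMap_base f g)))))
  naturality U V r := by
    apply Over.OverMorphism.ext
    apply pullback.hom_ext <;> simp

theorem jMap_left_fst {n m : ℕ} (g : Fin (n + 1) → Fin (m + 1)) (U : Over Y) :
    ((jMap f g).app U).left ≫ pullback.fst U.hom (nvπ f n) = pullback.fst U.hom (nvπ f m) :=
  pullback.lift_fst _ _ _

theorem jMap_left_snd {n m : ℕ} (g : Fin (n + 1) → Fin (m + 1)) (U : Over Y) :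
    ((jMap f g).app U).left ≫ pullback.snd U.hom (nvπ f n) = pullback.snd U.hom (nvπ f m) ≫ idxMap f g :=
  pullback.lift_snd _ _ _

/-- The projection. -/
abbrev jPr (n : ℕ) : jFun f n ⟶ 𝟭 (Over Y) := (Over.mapPullbackAdj (nvπ f n)).counit

theorem jPr_left (n : ℕ) (U : Over Y) : ((jPr f n).app U).left = pullback.fst U.hom (nvπ f n) := by
  simp [jPr]

/-- The sheaves of the resolution. -/
def fSh (n : ℕ) : EtFppf.AbF Y ⥤ EtFppf.AbF Y where
  obj G := ⟨(jFun f n).op ⋙ G.obj, ((dir (nvπ f n)).obj ((res (nvπ f n)).obj G)).property⟩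
  map φ := ObjectProperty.homMk (Functor.whiskerLeft (jFun f n).op φ.hom)

/-- They are direct images of restrictions. -/
def fShIso (n : ℕ) (G : EtFppf.AbF Y) : (fSh f n).obj G ≅ (dir (nvπ f n)).obj ((res (nvπ f n)).obj G) :=
  (fullyFaithfulSheafToPresheaf _ _).preimageIso (Iso.refl _)

/-- The cosimplicial functor. -/
def fCo : SimplexCategory ⥤ (EtFppf.AbF Y ⥤ EtFppf.AbF Y) where
  obj n := fSh f n.len
  map g :=
    { app := fun G => ObjectProperty.homMk (Functor.whiskerRight (NatTrans.op (jMap f g.toOrderHom)) G.obj)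
      naturality := fun G H φ => by
        refine Sheaf.hom_ext (NatTrans.ext (funext fun U => ?_))
        exact (φ.hom.naturality ((jMap f g.toOrderHom).app U.unop).op).symm }
  map_id n := by
    refine NatTrans.ext (funext fun G => Sheaf.hom_ext (NatTrans.ext (funext fun U => ?_)))
    refine (congrArg (fun r => G.obj.map (Quiver.Hom.op r)) ?_).trans (G.obj.map_id _)
    apply Over.OverMorphism.ext
    apply pullback.hom_ext
    · exact (jMap_left_fst f _ _).trans (Category.id_comp _).symm
    · refine (jMap_left_snd f _ _).trans (Eq.trans ?_ (Category.id_comp _).symm)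
      refine (congrArg (_ ≫ ·) (WidePullback.hom_ext _ _ _ (fun i => ?_) ?_)).trans (Category.comp_id _)
      · rw [idxMap_π, Category.id_comp]; rfl
      · rw [idxMap_base, Category.id_comp]
  map_comp {a b c} g h := by
    refine NatTrans.ext (funext fun G => Sheaf.hom_ext (NatTrans.ext (funext fun U => ?_)))
    refine Eq.trans ?_ (G.obj.map_comp _ _)
    refine congrArg (fun r => G.obj.map (Quiver.Hom.op r)) ?_
    apply Over.OverMorphism.ext
    apply pullback.hom_ext
    · refine (jMap_left_fst f _ _).trans (Eq.trans ?_ (Category.assoc _ _ _).symm)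
      exact ((congrArg (_ ≫ ·) (jMap_left_fst f _ _)).trans (jMap_left_fst f _ _)).symm
    · refine (jMap_left_snd f _ _).trans (Eq.trans ?_ (Category.assoc _ _ _).symm)
      refine Eq.trans ?_ (congrArg (_ ≫ ·) (jMap_left_snd f _ _)).symm
      refine Eq.trans ?_ (Category.assoc _ _ _)
      refine Eq.trans ?_ (congrArg (· ≫ idxMap f _) (jMap_left_snd f _ _)).symm
      exact (congrArg (_ ≫ ·) (idxMap_comp f g.toOrderHom h.toOrderHom).symm).trans (Category.assoc _ _ _).symm

/-- The resolution. -/
def fCx : EtFppf.AbF Y ⥤ CochainComplex (EtFppf.AbF Y) ℕ :=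
  (fCo f).flip ⋙ AlgebraicTopology.alternatingCofaceMapComplex (EtFppf.AbF Y)

theorem fCx_X (G : EtFppf.AbF Y) (n : ℕ) : ((fCx f).obj G).X n = (fSh f n).obj G := rfl

instance : (fCx f).Additive where
  map_add {G H φ ψ} := by
    refine HomologicalComplex.hom_ext _ _ fun n => Sheaf.hom_ext (NatTrans.ext (funext fun U => ?_))
    rfl

theorem fCx_d (G : EtFppf.AbF Y) (n : ℕ) :
    ((fCx f).obj G).d n (n + 1) = ∑ i : Fin (n + 2), (-1 : ℤ) ^ (i : ℕ) •
      (show (fSh f n).obj G ⟶ (fSh f (n + 1)).obj G from ((fCo f).map (SimplexCategory.δ i)).app G) := by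
  refine (CochainComplex.of_d (fun m => (fSh f m).obj G)
    (AlgebraicTopology.AlternatingCofaceMapComplex.objD ((fCo f).flip.obj G)) n).trans ?_
  rfl

/-- The differential on sections. -/
theorem fCx_d_app (G : EtFppf.AbF Y) (n : ℕ) (U : Over Y) (σ : G.obj.obj (op ((jFun f n).obj U))) :
    ((((fCx f).obj G).d n (n + 1)).hom.app (op U) σ : G.obj.obj (op ((jFun f (n + 1)).obj U))) =
      ∑ i : Fin (n + 2), (-1 : ℤ) ^ (i : ℕ) • G.obj.map ((jMap f (Fin.succAbove i)).app U).op σ := by
  let ev : ((fSh f n).obj G ⟶ (fSh f (n + 1)).obj G) →+ G.obj.obj (op ((jFun f (n + 1)).obj U)) :=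
    AddMonoidHom.mk' (fun α => α.hom.app (op U) σ) (fun α β => rfl)
  show ev (((fCx f).obj G).d n (n + 1)) = _
  rw [fCx_d, map_sum]
  refine Finset.sum_congr rfl fun i _ => ?_
  rw [map_zsmul]
  rfl

/-- The augmentation. -/
def fAug (G : EtFppf.AbF Y) : G ⟶ ((fCx f).obj G).X 0 :=
  show G ⟶ (fSh f 0).obj G from ObjectProperty.homMk (Functor.whiskerRight (NatTrans.op (jPr f 0)) G.obj)

theorem fAug_app (G : EtFppf.AbF Y) (U : Over Y) (b : G.obj.obj (op U)) :
    ((fAug f G).hom.app (op U) b : G.obj.obj (op ((jFun f 0).obj U))) = G.obj.map ((jPr f 0).app U).op b :=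
  rfl

theorem fAug_d (G : EtFppf.AbF Y) : fAug f G ≫ ((fCx f).obj G).d 0 1 = 0 := by
  refine Sheaf.hom_ext (NatTrans.ext (funext fun U => ConcreteCategory.hom_ext _ _ fun b => ?_))
  refine (fCx_d_app f G 0 U.unop (G.obj.map ((jPr f 0).app U.unop).op b)).trans ?_
  have e : ∀ i : Fin 2, G.obj.map ((jMap f (Fin.succAbove i)).app U.unop).op
      (G.obj.map ((jPr f 0).app U.unop).op b) = G.obj.map ((jPr f 1).app U.unop).op b := by
    intro i
    rw [← ConcreteCategory.comp_apply, ← G.obj.map_comp, ← op_comp]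
    refine congrArg (fun r => G.obj.map (Quiver.Hom.op r) b) (Over.OverMorphism.ext ?_)
    rw [Over.comp_left, jPr_left, jPr_left]
    exact jMap_left_fst f _ _
  rw [Fin.sum_univ_two, e, e]
  simp only [Fin.val_zero, pow_zero, Fin.val_one, pow_one, one_smul, neg_smul]
  exact add_neg_cancel _

section homotopy

variable {U : Over Y} (s : U.left ⟶ X) (hs : s ≫ f = U.hom)

/-- Prepend the section. -/
def consW (m : ℕ) : pullback U.hom (nvπ f m) ⟶ nvX f (m + 1) :=
  WidePullback.lift (pullback.fst U.hom (nvπ f m) ≫ U.hom)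
    (Fin.cases (pullback.fst U.hom (nvπ f m) ≫ s)
      (fun j => pullback.snd U.hom (nvπ f m) ≫ WidePullback.π (fun _ : Fin (m + 1) => f) j))
    (fun i => by
      induction i using Fin.cases with
      | zero => exact (Category.assoc _ _ _).trans (congrArg (_ ≫ ·) hs)
      | succ j =>
        exact (Category.assoc _ _ _).trans
          ((congrArg (_ ≫ ·) (WidePullback.π_arrow (fun _ : Fin (m + 1) => f) j)).trans pullback.condition.symm))

/-- Prepend the section. -/
def consJ (m : ℕ) : (jFun f m).obj U ⟶ (jFun f (m + 1)).obj U :=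
  Over.homMk (pullback.lift (pullback.fst U.hom (nvπ f m)) (consW f s hs m)
      (WidePullback.lift_base _ _ _ _).symm)
    ((Category.assoc _ _ _).symm.trans ((congrArg (· ≫ nvπ f (m + 1)) (pullback.lift_snd _ _ _)).trans
      ((WidePullback.lift_base _ _ _ _).trans pullback.condition)))

/-- The constant section. -/
def constJ : U ⟶ (jFun f 0).obj U :=
  Over.homMk (pullback.lift (𝟙 U.left) (WidePullback.lift U.hom (fun _ => s) (fun _ => hs))
      ((Category.id_comp _).trans (WidePullback.lift_base _ _ _ _).symm))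
    ((Category.assoc _ _ _).symm.trans ((congrArg (· ≫ nvπ f 0) (pullback.lift_snd _ _ _)).trans
      (WidePullback.lift_base _ _ _ _)))

theorem consJ_fst (m : ℕ) :
    (consJ f s hs m).left ≫ pullback.fst U.hom (nvπ f (m + 1)) = pullback.fst U.hom (nvπ f m) :=
  pullback.lift_fst _ _ _

theorem consJ_snd (m : ℕ) : (consJ f s hs m).left ≫ pullback.snd U.hom (nvπ f (m + 1)) = consW f s hs m :=
  pullback.lift_snd _ _ _

theorem consW_base (m : ℕ) :
    consW f s hs m ≫ nvπ f (m + 1) = pullback.fst U.hom (nvπ f m) ≫ U.hom :=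
  WidePullback.lift_base _ _ _ _

theorem consW_zero (m : ℕ) :
    consW f s hs m ≫ WidePullback.π (fun _ : Fin (m + 1 + 1) => f) 0 = pullback.fst U.hom (nvπ f m) ≫ s :=
  WidePullback.lift_π _ _ _ _ _

theorem consW_succ (m : ℕ) (j : Fin (m + 1)) :
    consW f s hs m ≫ WidePullback.π (fun _ : Fin (m + 1 + 1) => f) j.succ =
      pullback.snd U.hom (nvπ f m) ≫ WidePullback.π (fun _ : Fin (m + 1) => f) j :=
  WidePullback.lift_π _ _ _ _ _

theorem consJ_face_zero (m : ℕ) :
    consJ f s hs m ≫ (jMap f (Fin.succAbove (0 : Fin (m + 1 + 1)))).app U = 𝟙 _ := by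
  apply Over.OverMorphism.ext
  apply pullback.hom_ext
  · exact (Category.assoc _ _ _).trans ((congrArg (_ ≫ ·) (jMap_left_fst f _ _)).trans
      ((consJ_fst f s hs m).trans (Category.id_comp _).symm))
  · refine (Category.assoc _ _ _).trans ((congrArg (_ ≫ ·) (jMap_left_snd f _ _)).trans ?_)
    refine (Category.assoc _ _ _).symm.trans ((congrArg (· ≫ _) (consJ_snd f s hs m)).trans ?_)
    refine Eq.trans ?_ (Category.id_comp _).symm
    refine WidePullback.hom_ext _ _ _ (fun i => ?_) ?_
    · rw [Category.assoc, idxMap_π, Fin.succAbove_zero, consW_succ]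
    · rw [Category.assoc, idxMap_base, consW_base, pullback.condition]

theorem consJ_face_succ (m : ℕ) (i : Fin (m + 2)) :
    consJ f s hs (m + 1) ≫ (jMap f (Fin.succAbove i.succ)).app U =
      (jMap f (Fin.succAbove i)).app U ≫ consJ f s hs m := by
  apply Over.OverMorphism.ext
  apply pullback.hom_ext
  · refine (Category.assoc _ _ _).trans ((congrArg (_ ≫ ·) (jMap_left_fst f _ _)).trans ?_)
    refine (consJ_fst f s hs _).trans ?_
    exact ((Category.assoc _ _ _).trans ((congrArg (_ ≫ ·) (consJ_fst f s hs m)).trans (jMap_left_fst f _ _))).symm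
  · refine (Category.assoc _ _ _).trans ((congrArg (_ ≫ ·) (jMap_left_snd f _ _)).trans ?_)
    refine (Category.assoc _ _ _).symm.trans ((congrArg (· ≫ _) (consJ_snd f s hs _)).trans ?_)
    refine Eq.trans ?_ (Category.assoc _ _ _).symm
    refine Eq.trans ?_ (congrArg (_ ≫ ·) (consJ_snd f s hs m)).symm
    refine WidePullback.hom_ext _ _ _ (fun j => ?_) ?_
    · rw [Category.assoc, idxMap_π]
      cases j using Fin.cases with
      | zero =>
        rw [Fin.succ_succAbove_zero, consW_zero, Category.assoc, consW_zero, ← Category.assoc, jMap_left_fst]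
      | succ j =>
        rw [Fin.succ_succAbove_succ, consW_succ, Category.assoc, consW_succ, ← Category.assoc, jMap_left_snd,
          Category.assoc, idxMap_π]
    · rw [Category.assoc, idxMap_base, consW_base, Category.assoc, consW_base, ← Category.assoc, jMap_left_fst]

theorem consJ_face_one (i : Fin 1) :
    consJ f s hs 0 ≫ (jMap f (Fin.succAbove i.succ)).app U = (jPr f 0).app U ≫ constJ f s hs := by
  apply Over.OverMorphism.ext
  apply pullback.hom_ext
  · refine (Category.assoc _ _ _).trans ((congrArg (_ ≫ ·) (jMap_left_fst f _ _)).trans ?_)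
    refine (consJ_fst f s hs _).trans ?_
    refine Eq.trans ?_ (Category.assoc _ _ _).symm
    refine Eq.trans ?_ (congrArg (_ ≫ ·) (pullback.lift_fst _ _ _)).symm
    exact ((Category.comp_id _).trans (jPr_left f 0 U)).symm
  · refine (Category.assoc _ _ _).trans ((congrArg (_ ≫ ·) (jMap_left_snd f _ _)).trans ?_)
    refine (Category.assoc _ _ _).symm.trans ((congrArg (· ≫ _) (consJ_snd f s hs _)).trans ?_)
    refine Eq.trans ?_ (Category.assoc _ _ _).symm
    refine Eq.trans ?_ (congrArg (_ ≫ ·) (pullback.lift_snd _ _ _)).symm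
    refine WidePullback.hom_ext _ _ _ (fun j => ?_) ?_
    · obtain rfl : j = 0 := Fin.fin_one_eq_zero j
      rw [Category.assoc, idxMap_π, Fin.succ_succAbove_zero, consW_zero, Category.assoc,
        WidePullback.lift_π]
      exact congrArg (· ≫ s) (jPr_left f 0 U).symm
    · rw [Category.assoc, idxMap_base, consW_base, Category.assoc, WidePullback.lift_base]
      exact congrArg (· ≫ U.hom) (jPr_left f 0 U).symm

theorem constJ_jPr : constJ f s hs ≫ (jPr f 0).app U = 𝟙 U := by
  apply Over.OverMorphism.ext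
  rw [Over.comp_left, jPr_left]
  exact pullback.lift_fst _ _ _

/-- A cycle is the boundary of its prepending. -/
theorem cycle_eq (G : EtFppf.AbF Y) (m : ℕ) (σ : G.obj.obj (op ((jFun f m).obj U)))
    (hσ : (((fCx f).obj G).d m (m + 1)).hom.app (op U) σ = 0) :
    σ = ∑ i : Fin (m + 1), (-1 : ℤ) ^ (i : ℕ) •
      G.obj.map (consJ f s hs m ≫ (jMap f (Fin.succAbove i.succ)).app U).op σ := by
  have h0 : G.obj.map (consJ f s hs m).op
      (∑ i : Fin (m + 2), (-1 : ℤ) ^ (i : ℕ) • G.obj.map ((jMap f (Fin.succAbove i)).app U).op σ) = 0 := by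
    rw [← fCx_d_app]
    exact (congrArg (G.obj.map (consJ f s hs m).op) hσ).trans (map_zero _)
  rw [map_sum, Fin.sum_univ_succ] at h0
  simp only [map_neg, map_zsmul, ← ConcreteCategory.comp_apply, ← G.obj.map_comp, ← op_comp, consJ_face_zero,
    op_id, G.obj.map_id, ConcreteCategory.id_apply, Fin.val_zero, pow_zero, one_smul, Fin.val_succ, pow_succ,
    mul_neg, mul_one, neg_smul, Finset.sum_neg_distrib] at h0
  exact add_neg_eq_zero.1 h0

include hs in
theorem exists_primitive_of_section (G : EtFppf.AbF Y) (n : ℕ)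
    (σ : G.obj.obj (op ((jFun f (n + 1)).obj U)))
    (hσ : (((fCx f).obj G).d (n + 1) (n + 2)).hom.app (op U) σ = 0) :
    ∃ ψ : G.obj.obj (op ((jFun f n).obj U)),
      (((fCx f).obj G).d n (n + 1)).hom.app (op U) ψ = σ := by
  refine ⟨G.obj.map (consJ f s hs n).op σ, (fCx_d_app f G n U _).trans ?_⟩
  refine Eq.trans ?_ (cycle_eq f s hs G (n + 1) σ hσ).symm
  refine Finset.sum_congr rfl fun i _ => congrArg (fun r => (-1 : ℤ) ^ (i : ℕ) • r) ?_
  rw [← ConcreteCategory.comp_apply, ← G.obj.map_comp, ← op_comp, consJ_face_succ]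

include hs in
theorem exists_aug_of_section (G : EtFppf.AbF Y) (φ : G.obj.obj (op ((jFun f 0).obj U)))
    (hφ : (((fCx f).obj G).d 0 1).hom.app (op U) φ = 0) :
    ∃ b : G.obj.obj (op U), G.obj.map ((jPr f 0).app U).op b = φ := by
  refine ⟨G.obj.map (constJ f s hs).op φ, Eq.trans ?_ (cycle_eq f s hs G 0 φ hφ).symm⟩
  rw [Fin.sum_univ_one, consJ_face_one]
  simp only [Fin.val_zero, pow_zero, one_smul]
  exact (ConcreteCategory.congr_hom (G.obj.map_comp _ _) φ).symm

end homotopy

variable [Flat f] [LocallyOfFinitePresentation f] [Surjective f]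

/-- The base change of the morphism covers. -/
theorem generate_mem (U : Over Y) :
    Sieve.generate (Presieve.singleton ((Over.mapPullbackAdj f).counit.app U)) ∈ EtFppf.J Y U := by
  change Sieve.overEquiv U _ ∈ Scheme.fppfTopology U.left
  have : Flat (pullback.fst U.hom f) := MorphismProperty.pullback_fst _ _ ‹Flat f›
  have : LocallyOfFinitePresentation (pullback.fst U.hom f) :=
    MorphismProperty.pullback_fst _ _ ‹LocallyOfFinitePresentation f›
  have : Surjective (pullback.fst U.hom f) := MorphismProperty.pullback_fst _ _ ‹Surjective f›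
  refine GrothendieckTopology.superset_covering _ ?_ (Precoverage.generate_mem_toGrothendieck
    (pullback.fst U.hom f).singleton_mem_fppfPrecoverage)
  rw [Sieve.generate_le_iff]
  rintro _ _ ⟨⟩
  refine (Sieve.overEquiv_iff _ _).2 ⟨(Over.pullback f ⋙ Over.map f).obj U, ?_,
    (Over.mapPullbackAdj f).counit.app U, Presieve.singleton_self _, ?_⟩
  · exact Over.homMk (𝟙 _) ((Category.id_comp _).trans pullback.condition.symm)
  · apply Over.OverMorphism.ext
    exact Category.id_comp _

omit [Flat f] [LocallyOfFinitePresentation f] [Surjective f] in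
theorem section_over (U : Over Y) :
    (pullback.snd U.hom f : ((Over.pullback f ⋙ Over.map f).obj U).left ⟶ X) ≫ f =
      ((Over.pullback f ⋙ Over.map f).obj U).hom :=
  rfl

omit [Flat f] [LocallyOfFinitePresentation f] [Surjective f] in
theorem fiCycles_app_injective (G : EtFppf.AbF Y) (n : ℕ) (U : Over Y) :
    Function.Injective ((((fCx f).obj G).iCycles n).hom.app (op U)) :=
  (AddCommGrpCat.mono_iff_injective _).1
    ((sheafToPresheaf (EtFppf.J Y) AddCommGrpCat.{u + 1} ⋙
      (evaluation _ _).obj (op U)).map_mono (((fCx f).obj G).iCycles n))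

theorem exactAt_fCx (G : EtFppf.AbF Y) (n : ℕ) : ((fCx f).obj G).ExactAt (n + 1) := by
  have : Sheaf.IsLocallySurjective (((fCx f).obj G).toCycles n (n + 1)) := ⟨fun {U} z => ?_⟩
  · have hπ : ((fCx f).obj G).homologyπ (n + 1) = 0 := by
      rw [← cancel_epi (((fCx f).obj G).toCycles n (n + 1)), comp_zero,
        HomologicalComplex.toCycles_comp_homologyπ]
    rw [HomologicalComplex.exactAt_iff_isZero_homology]
    exact IsZero.of_epi_eq_zero _ hπ
  · refine GrothendieckTopology.superset_covering _ ((Sieve.generate_le_iff _ _).2 ?_) (generate_mem f U)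
    rintro _ _ ⟨⟩
    let c := (Over.mapPullbackAdj f).counit.app U
    let U' := (Over.pullback f ⋙ Over.map f).obj U
    let z' := (((fCx f).obj G).cycles (n + 1)).obj.map c.op z
    have hσ : (((fCx f).obj G).d (n + 1) (n + 2)).hom.app (op U')
        ((((fCx f).obj G).iCycles (n + 1)).hom.app (op U') z') = 0 :=
      ConcreteCategory.congr_hom (congrArg (fun r => r.hom.app (op U'))
        (((fCx f).obj G).iCycles_d (n + 1) (n + 2))) z'
    obtain ⟨ψ, hψ⟩ := exists_primitive_of_section f (U := U') (pullback.snd U.hom f) (section_over f U) G n _ hσ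
    refine ⟨ψ, fiCycles_app_injective f G (n + 1) U' ?_⟩
    exact (ConcreteCategory.congr_hom (congrArg (fun r : ((fCx f).obj G).X n ⟶ ((fCx f).obj G).X (n + 1) =>
      r.hom.app (op U')) (((fCx f).obj G).toCycles_i n (n + 1))) ψ).trans hψ

/-- The augmentation into the cycles. -/
def fAugCyc (G : EtFppf.AbF Y) : G ⟶ ((fCx f).obj G).cycles 0 :=
  ((fCx f).obj G).liftCycles (fAug f G) 1 (by simp) (fAug_d f G)

omit [Flat f] [LocallyOfFinitePresentation f] [Surjective f] in
theorem fAugCyc_i (G : EtFppf.AbF Y) :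
    fAugCyc f G ≫ ((fCx f).obj G).iCycles 0 = fAug f G :=
  ((fCx f).obj G).liftCycles_i (fAug f G) 1 (by simp) (fAug_d f G)

theorem fAug_injective (G : EtFppf.AbF Y) (U : Over Y) :
    Function.Injective ((fAug f G).hom.app (op U)) := by
  intro a b hab
  have hsh : Presieve.IsSheaf (EtFppf.J Y) (G.obj ⋙ forget AddCommGrpCat.{u + 1}) :=
    (isSheaf_iff_isSheaf_of_type _ _).1
      ((Presheaf.isSheaf_iff_isSheaf_forget _ _ (forget AddCommGrpCat.{u + 1})).1 G.property)
  refine (hsh _ (generate_mem f U)).isSeparatedFor.ext ?_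
  rintro W w ⟨Z, k, c, ⟨⟩, rfl⟩
  let c := (Over.mapPullbackAdj f).counit.app U
  show G.obj.map (k ≫ c).op a = G.obj.map (k ≫ c).op b
  let U' := (Over.pullback f ⋙ Over.map f).obj U
  have key : c = constJ f (U := U') (pullback.snd U.hom f) (section_over f U) ≫ (jFun f 0).map c ≫
      (jPr f 0).app U := by
    refine Eq.symm ((congrArg (constJ f (U := U') _ (section_over f U) ≫ ·) ((jPr f 0).naturality c)).trans ?_)
    refine (Category.assoc _ _ _).symm.trans ?_
    exact (congrArg (· ≫ c) (constJ_jPr f (U := U') _ (section_over f U))).trans (Category.id_comp _)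
  have hab' : G.obj.map ((jPr f 0).app U).op a = G.obj.map ((jPr f 0).app U).op b := hab
  rw [key]
  simp only [op_comp, Functor.map_comp, ConcreteCategory.comp_apply]
  exact congrArg (fun r => G.obj.map k.op (G.obj.map (constJ f (U := U') _ (section_over f U)).op
    (G.obj.map ((jFun f 0).map c).op r))) hab'

theorem isIso_fAugCyc (G : EtFppf.AbF Y) : IsIso (fAugCyc f G) := by
  have hinj : ∀ U : Over Y, Function.Injective ((fAugCyc f G).hom.app (op U)) := fun U a b h =>
    fAug_injective f G U ((ConcreteCategory.congr_hom (congrArg (fun r => r.hom.app (op U)) (fAugCyc_i f G)) a).symm.trans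
      ((congrArg _ h).trans (ConcreteCategory.congr_hom (congrArg (fun r => r.hom.app (op U)) (fAugCyc_i f G)) b)))
  have : ∀ U, Mono (((sheafToPresheaf _ _).map (fAugCyc f G)).app U) := fun U =>
    (AddCommGrpCat.mono_iff_injective _).2 (hinj U.unop)
  have : Mono ((sheafToPresheaf _ _).map (fAugCyc f G)) := NatTrans.mono_of_mono_app _
  have : Mono (fAugCyc f G) := (sheafToPresheaf _ _).mono_of_mono_map this
  have : Sheaf.IsLocallySurjective (fAugCyc f G) := ⟨fun {U} z => by
    refine GrothendieckTopology.superset_covering _ ((Sieve.generate_le_iff _ _).2 ?_) (generate_mem f U)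
    rintro _ _ ⟨⟩
    let c := (Over.mapPullbackAdj f).counit.app U
    let U' := (Over.pullback f ⋙ Over.map f).obj U
    let z' := (((fCx f).obj G).cycles 0).obj.map c.op z
    have hφ : (((fCx f).obj G).d 0 1).hom.app (op U') ((((fCx f).obj G).iCycles 0).hom.app (op U') z') = 0 :=
      ConcreteCategory.congr_hom (congrArg (fun r => r.hom.app (op U')) (((fCx f).obj G).iCycles_d 0 1)) z'
    obtain ⟨b, hb⟩ := exists_aug_of_section f (U := U') (pullback.snd U.hom f) (section_over f U) G _ hφ
    refine ⟨b, fiCycles_app_injective f G 0 U' ?_⟩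
    exact (ConcreteCategory.congr_hom (congrArg (fun r => r.hom.app (op U')) (fAugCyc_i f G)) b).trans hb⟩
  exact isIso_of_mono_of_epi (fAugCyc f G)

/-- Every sheaf is the cohomology in degree zero of its resolution, naturally. -/
def fAugIso : 𝟭 (EtFppf.AbF Y) ≅ fCx f ⋙ HomologicalComplex.homologyFunctor (EtFppf.AbF Y) (ComplexShape.up ℕ) 0 :=
  NatIso.ofComponents (fun G => @asIso _ _ _ _ (fAugCyc f G) (isIso_fAugCyc f G) ≪≫ CochainComplex.isoHomologyπ₀ ((fCx f).obj G))
    (fun {G H} φ => by
      simp only [Functor.id_map, Iso.trans_hom, Functor.comp_map,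
        HomologicalComplex.homologyFunctor_map, Category.assoc]
      have h1 : fAugCyc f G ≫ HomologicalComplex.cyclesMap ((fCx f).map φ) 0 = φ ≫ fAugCyc f H := by
        rw [← cancel_mono (((fCx f).obj H).iCycles 0), Category.assoc, HomologicalComplex.cyclesMap_i,
          ← Category.assoc, fAugCyc_i, Category.assoc, fAugCyc_i]
        refine Sheaf.hom_ext (NatTrans.ext (funext fun U => ?_))
        exact φ.hom.naturality ((jPr f 0).app U.unop).op
      refine Eq.trans ?_ (congrArg (fAugCyc f G ≫ ·) (HomologicalComplex.homologyπ_naturality ((fCx f).map φ) 0).symm)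
      refine (Category.assoc φ (fAugCyc f H) _).symm.trans (Eq.trans ?_ (Category.assoc _ _ _))
      exact congrArg (· ≫ HomologicalComplex.homologyπ _ 0) h1.symm)

end GrothLib.EtDesc19
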