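import Groth.Agent.Lib.EtDesc19.FppfCx
import Groth.Agent.Lib.DescSS19.ResFun
import Groth.Agent.Lib.BigEt.Fppf.Descent
import Groth.Agent.Lib.GrothSS.HomExt
import Groth.Agent.Lib.EtSite.PushExact
import Mathlib.CategoryTheory.Abelian.GrothendieckCategory.EnoughInjectives
import Mathlib.Algebra.Homology.GrothendieckAbelian
import Mathlib.CategoryTheory.Preadditive.Yoneda.Limits

/-!
# The descent spectral sequence of a flat surjective morphism locally of finite presentation
-/

set_option autoImplicit false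
universe u v v' w u₁ u₂ u₃

open CategoryTheory CategoryTheory.Limits CategoryTheory.Abelian AlgebraicGeometry Opposite
open GrothLib GrothLib.BigEt.Fppf

set_option backward.isDefEq.respectTransparency.types false
set_option backward.isDefEq.respectTransparency false

noncomputable section

namespace GrothLib.EtDesc19

/-- The derived functors of a composite with an exact functor preserving injectives. -/
def rightDerivedPreExactIso {A : Type u₁} [Category.{v} A] [Abelian A] [HasInjectiveResolutions A]
    {B : Type u₂} [Category.{v'} B] [Abelian B] [EnoughInjectives B]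
    {D : Type u₃} [Category.{w} D] [Abelian D] (R : A ⥤ B) [R.Additive] [PreservesFiniteLimits R]
    [R.PreservesHomology] (hR : ∀ J : A, Injective J → Injective (R.obj J))
    (G : B ⥤ D) [G.Additive] [EnoughInjectives A] (F : A) (q : ℕ) :
    ((R ⋙ G).rightDerived q).obj F ≅ (G.rightDerived q).obj (R.obj F) :=
  let P := injectiveResolution F
  let I := SheafCoh.mapInjectiveResolution R P hR
    (fun n => EtSite.isZero_rightDerived_of_exact R (n + 1) n.succ_pos F)
  P.isoRightDerivedObj (R ⋙ G) q ≪≫
    (HomologicalComplex.homologyFunctor _ _ q).mapIso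
      ((Functor.mapHomologicalComplexCompIso (Iso.refl (R ⋙ G)) (ComplexShape.up ℕ)).symm.app P.cocomplex) ≪≫
    (I.isoRightDerivedObj G q).symm

variable {X Y : Scheme.{u}} (f : X ⟶ Y)

/-- Global sections of a stage are global sections on the fibre power. -/
def stageSecIso (p : ℕ) :
    fSh f p ⋙ GrothSS.homFun (Zb Y) ≅ res (nvπ f p) ⋙ GrothSS.homFun (Zb (nvX f p)) :=
  NatIso.ofComponents
    (fun G => ((secEquiv ((fSh f p).obj G)).trans
      (((G.obj.mapIso ((Over.map (nvπ f p)).mapIso (topPullback (nvπ f p))).op).addCommGroupIsoToAddEquiv).trans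
        (secEquiv ((res (nvπ f p)).obj G)).symm)).toAddCommGrpIso)
    (fun {G H} φ => by
      ext a
      apply (secEquiv ((res (nvπ f p)).obj H)).injective
      let e := ((Over.map (nvπ f p)).mapIso (topPullback (nvπ f p))).op
      show secEquiv _ ((secEquiv _).symm (H.obj.map e.hom (secEquiv ((fSh f p).obj H) (a ≫ (fSh f p).map φ)))) =
        secEquiv _ ((secEquiv ((res (nvπ f p)).obj G)).symm (G.obj.map e.hom (secEquiv ((fSh f p).obj G) a)) ≫
          (res (nvπ f p)).map φ)
      rw [AddEquiv.apply_symm_apply, secEquiv_comp, secEquiv_comp, AddEquiv.apply_symm_apply]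
      exact (NatTrans.naturality_apply φ.hom e.hom (secEquiv ((fSh f p).obj G) a)).symm)

variable [Flat f] [LocallyOfFinitePresentation f] [Surjective f] (F : EtCoh.Ab Y)

/-- The spectral sequence. -/
theorem exists_flat (E₁ : ℕ → ℕ → AddCommGrpCat.{u + 1})
    (hE : ∀ p q, Nonempty (E₁ p q ≅
      AddCommGrpCat.of (EtCoh.H (nvX f p) ((EtCoh.pull (nvπ f p)).obj F) q))) :
    ∃ (E : CohomologicalSpectralSequence AddCommGrpCat.{u + 1} 1)
      (a : SpSeq.Abutment E (fun n : ℤ =>
        if 0 ≤ n then AddCommGrpCat.of (EtCoh.H Y F n.toNat) else AddCommGrpCat.of PUnit.{u + 2})),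
      (∀ n, a.IsFinite n) ∧ SpSeq.IsBounded E ∧
      ∀ p q : ℤ, Nonempty ((E.page 1 le_rfl).X (p, q) ≅
        (if 0 ≤ p ∧ 0 ≤ q then E₁ p.toNat q.toNat else AddCommGrpCat.of PUnit.{u + 2})) := by
  refine DescSS19.exists_of_resolutionFunctor (GrothSS.homFun (Zb Y)) (fCx f)
    (fun I _ => exactAt_fCx f I) (fun I hI n => ?_) (fAugIso f) ((π Y).obj F) E₁
    (fun n => AddCommGrpCat.of (EtCoh.H Y F n))
    (AddCommGrpCat.of PUnit.{u + 2}) (AddCommGrpCat.isZero_of_subsingleton _)
    (fun n => ?_) (fun p q => ?_)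
  · have := injective_res (nvπ f n) I
    have := injective_dir (nvπ f n) ((res (nvπ f n)).obj I)
    exact Injective.of_iso (fShIso f n I).symm this
  · obtain ⟨e⟩ := nonempty_H_aPull F n
    exact ⟨e.toAddCommGrpIso ≪≫ ((GrothSS.rightDerivedHomFunIso (Zb Y) n).app _).symm⟩
  · have : (res (nvπ f p)).PreservesHomology := Functor.preservesHomologyOfExact _
    obtain ⟨e⟩ := nonempty_H_aPull ((EtCoh.pull (nvπ f p)).obj F) q
    exact ⟨(hE p q).some ≪≫ e.toAddCommGrpIso ≪≫
      ((GrothSS.rightDerivedHomFunIso (Zb (nvX f p)) q).app _).symm ≪≫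
      ((GrothSS.homFun (Zb (nvX f p))).rightDerived q).mapIso ((resπ (nvπ f p)).app F).symm ≪≫
      (rightDerivedPreExactIso (res (nvπ f p)) (fun J hJ => haveI := hJ; injective_res _ J)
        (GrothSS.homFun (Zb (nvX f p))) ((π Y).obj F) q).symm ≪≫
      (SheafCoh.rightDerivedCongr ((stageSecIso f p).symm ≪≫ NatIso.ofComponents (fun _ => Iso.refl _)
        (fun g => (Category.comp_id _).trans (Category.id_comp _).symm) :
        res (nvπ f p) ⋙ GrothSS.homFun (Zb (nvX f p)) ≅
          fCx f ⋙ HomologicalComplex.eval (EtFppf.AbF Y) (ComplexShape.up ℕ) p ⋙ GrothSS.homFun (Zb Y)) q).app _⟩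

end GrothLib.EtDesc19
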