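import Groth.Agent.Lib.BigEt.Compare
import Groth.Agent.Lib.BlowUp6.WidePullback
import Mathlib.AlgebraicTopology.AlternatingFaceMapComplex
import Mathlib.AlgebraicGeometry.Morphisms.Integral

/-!
# The Čech complex of sheaves of a morphism of schemes on the small etale site
-/

set_option autoImplicit false
universe u

open CategoryTheory CategoryTheory.Limits AlgebraicGeometry Opposite
open GrothLib.EtSite GrothLib.EtSec GrothLib.BigEt

set_option backward.isDefEq.respectTransparency.types false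
set_option backward.isDefEq.respectTransparency false

noncomputable section

namespace GrothLib.EtDesc19

variable {X Y : Scheme.{u}} (f : X ⟶ Y) (F : EtCoh.Ab Y)

/-- Restrictions along the two sides of a square agree. -/
theorem res_res_congr {S Z Z₁ Z₂ Z' : Scheme.{u}} {G : EtDesc.Sh S} {a : Z ⟶ S} {a₁ : Z₁ ⟶ S}
    {a₂ : Z₂ ⟶ S} {a' : Z' ⟶ S} {b₁ : Z₁ ⟶ Z} {b₂ : Z₂ ⟶ Z} {c₁ : Z' ⟶ Z₁} {c₂ : Z' ⟶ Z₂}
    {e₁ : b₁ ≫ a = a₁} {e₂ : b₂ ≫ a = a₂} {e₁' : c₁ ≫ a₁ = a'} {e₂' : c₂ ≫ a₂ = a'}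
    (h : c₁ ≫ b₁ = c₂ ≫ b₂) (σ : Secs a G) :
    (σ.res b₁ e₁).res c₁ e₁' = (σ.res b₂ e₂).res c₂ e₂' := by
  rw [Secs.res_comp, Secs.res_comp]
  exact Secs.res_congr h _ _ σ

/-- The fibre powers. -/
abbrev nvX (n : ℕ) : Scheme.{u} := widePullback Y (fun _ : Fin (n + 1) => X) (fun _ => f)

/-- Their projections to the base. -/
abbrev nvπ (n : ℕ) : nvX f n ⟶ Y := WidePullback.base (fun _ : Fin (n + 1) => f)

theorem isIntegralHom_nvπ [IsIntegralHom f] (n : ℕ) : IsIntegralHom (nvπ f n) :=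
  BlowUp6.prop_widePullback_base @IsIntegralHom _ _ (fun _ => inferInstance)

theorem surjective_nvπ [Surjective f] (n : ℕ) : Surjective (nvπ f n) := by
  refine ⟨fun y => ?_⟩
  obtain ⟨x, rfl⟩ := f.surjective y
  exact ⟨(WidePullback.lift f (fun _ => 𝟙 X) (fun _ => Category.id_comp f) : X ⟶ nvX f n).base x, by
    rw [← Scheme.Hom.comp_apply, WidePullback.lift_base]⟩

/-- The map of fibre powers given by a map of index sets. -/
def idxMap {n m : ℕ} (g : Fin (n + 1) → Fin (m + 1)) : nvX f m ⟶ nvX f n :=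
  WidePullback.lift (nvπ f m) (fun i => WidePullback.π (fun _ : Fin (m + 1) => f) (g i))
    (fun i => WidePullback.π_arrow (fun _ : Fin (m + 1) => f) (g i))

theorem idxMap_base {n m : ℕ} (g : Fin (n + 1) → Fin (m + 1)) : idxMap f g ≫ nvπ f n = nvπ f m :=
  WidePullback.lift_base _ _ _ _

theorem idxMap_π {n m : ℕ} (g : Fin (n + 1) → Fin (m + 1)) (i : Fin (n + 1)) :
    idxMap f g ≫ WidePullback.π (fun _ : Fin (n + 1) => f) i =
      WidePullback.π (fun _ : Fin (m + 1) => f) (g i) :=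
  WidePullback.lift_π _ _ _ _ i

/-- The value of the stage `n` on an etale scheme over the base. -/
abbrev CSec (n : ℕ) (U : Y.Etale) : Type (u + 1) :=
  Secs (((EtCoh.bc (nvπ f n)).obj U).hom ≫ nvπ f n) (forgetSh F)

/-- The presheaf of stage `n`. -/
def coPsh (n : ℕ) : Y.Etaleᵒᵖ ⥤ AddCommGrpCat.{u + 1} :=
  (EtCoh.bc (nvπ f n)).op ⋙ (EtFppf.a (nvX f n)).op ⋙ (Over.map (nvπ f n)).op ⋙ secsAb F

/-- It is the direct image of the inverse image. -/
def coPshIso (n : ℕ) :
    ((EtCoh.push (nvπ f n)).obj ((EtCoh.pull (nvπ f n)).obj F)).obj ≅ coPsh f F n :=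
  haveI : ∀ U, IsIso ((pullToSecs (nvπ f n) F).app U) := fun U =>
    (ConcreteCategory.isIso_iff_bijective _).2 (toSecsAb_bijective (nvπ f n) F U.unop)
  haveI : IsIso (pullToSecs (nvπ f n) F) := NatIso.isIso_of_isIso_app _
  Functor.isoWhiskerLeft (EtCoh.bc (nvπ f n)).op (asIso (pullToSecs (nvπ f n) F))

/-- The sheaf of stage `n`. -/
def coSh (n : ℕ) : EtCoh.Ab Y :=
  ⟨coPsh f F n, (Presheaf.isSheaf_of_iso_iff (coPshIso f F n)).1
    ((EtCoh.push (nvπ f n)).obj ((EtCoh.pull (nvπ f n)).obj F)).property⟩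

/-- It is the direct image of the inverse image. -/
def coShIso (n : ℕ) : coSh f F n ≅ (EtCoh.push (nvπ f n)).obj ((EtCoh.pull (nvπ f n)).obj F) :=
  (fullyFaithfulSheafToPresheaf _ _).preimageIso (coPshIso f F n).symm

/-- Base change of a map of fibre powers. -/
def stageMap {n m : ℕ} (g : Fin (n + 1) → Fin (m + 1)) (U : Y.Etale) :
    ((EtCoh.bc (nvπ f m)).obj U).left ⟶ ((EtCoh.bc (nvπ f n)).obj U).left :=
  pullback.lift (pullback.fst U.hom (nvπ f m)) (pullback.snd U.hom (nvπ f m) ≫ idxMap f g)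
    (pullback.condition.trans ((congrArg (_ ≫ ·) (idxMap_base f g).symm).trans (Category.assoc _ _ _).symm))

theorem stageMap_fst {n m : ℕ} (g : Fin (n + 1) → Fin (m + 1)) (U : Y.Etale) :
    stageMap f g U ≫ pullback.fst U.hom (nvπ f n) = pullback.fst U.hom (nvπ f m) :=
  pullback.lift_fst _ _ _

theorem stageMap_snd {n m : ℕ} (g : Fin (n + 1) → Fin (m + 1)) (U : Y.Etale) :
    stageMap f g U ≫ pullback.snd U.hom (nvπ f n) = pullback.snd U.hom (nvπ f m) ≫ idxMap f g :=
  pullback.lift_snd _ _ _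

theorem stageMap_cond {n m : ℕ} (g : Fin (n + 1) → Fin (m + 1)) (U : Y.Etale) :
    stageMap f g U ≫ ((EtCoh.bc (nvπ f n)).obj U).hom ≫ nvπ f n =
      ((EtCoh.bc (nvπ f m)).obj U).hom ≫ nvπ f m := by
  refine (Category.assoc _ _ _).symm.trans ((congrArg (· ≫ nvπ f n) (stageMap_snd f g U)).trans ?_)
  exact (Category.assoc _ _ _).trans (congrArg (_ ≫ ·) (idxMap_base f g))

theorem stageMap_natural {n m : ℕ} (g : Fin (n + 1) → Fin (m + 1)) {U V : Y.Etale} (r : V ⟶ U) :
    stageMap f g V ≫ ((EtCoh.bc (nvπ f n)).map r).left =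
      ((EtCoh.bc (nvπ f m)).map r).left ≫ stageMap f g U := by
  apply pullback.hom_ext
  · refine (Category.assoc _ _ _).trans
      ((congrArg (_ ≫ ·) (EtCoh.isPullback_bc_map (nvπ f n) r).w).trans ?_)
    refine (Category.assoc _ _ _).symm.trans ((congrArg (· ≫ r.left) (stageMap_fst f g V)).trans ?_)
    refine Eq.trans ?_ (Category.assoc _ _ _).symm
    exact (EtCoh.isPullback_bc_map (nvπ f m) r).w.symm.trans
      (congrArg (_ ≫ ·) (stageMap_fst f g U).symm)
  · refine (Category.assoc _ _ _).trans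
      ((congrArg (_ ≫ ·) (hom_left ((EtCoh.bc (nvπ f n)).map r))).trans ?_)
    refine (stageMap_snd f g V).trans ?_
    refine Eq.trans ?_ (Category.assoc _ _ _).symm
    refine Eq.trans ?_ (congrArg (_ ≫ ·) (stageMap_snd f g U)).symm
    refine Eq.trans ?_ (Category.assoc _ _ _)
    exact congrArg (· ≫ idxMap f g) (hom_left ((EtCoh.bc (nvπ f m)).map r)).symm

/-- The map of sheaves given by a map of index sets. -/
def coMap {n m : ℕ} (g : Fin (n + 1) → Fin (m + 1)) : coSh f F n ⟶ coSh f F m :=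
  ObjectProperty.homMk
    { app := fun U => AddCommGrpCat.ofHom (AddMonoidHom.mk'
        (fun σ : CSec f F n U.unop => σ.res (stageMap f g U.unop) (stageMap_cond f g U.unop))
        (fun σ τ => res_add _ _ σ τ))
      naturality := fun U V r => by
        ext σ
        exact res_res_congr
          (e₁ := Over.w ((Over.map (nvπ f n)).map ((EtFppf.a (nvX f n)).map ((EtCoh.bc (nvπ f n)).map r.unop))))
          (e₁' := stageMap_cond f g V.unop) (e₂ := stageMap_cond f g U.unop)
          (e₂' := Over.w ((Over.map (nvπ f m)).map ((EtFppf.a (nvX f m)).map ((EtCoh.bc (nvπ f m)).map r.unop))))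
          (stageMap_natural f g r.unop) _ }

theorem coMap_app {n m : ℕ} (g : Fin (n + 1) → Fin (m + 1)) (U : Y.Etale) (σ : CSec f F n U) :
    (coMap f F g).hom.app (op U) σ = σ.res (stageMap f g U) (stageMap_cond f g U) := rfl

theorem stageMap_id (n : ℕ) (U : Y.Etale) : stageMap f (id : Fin (n + 1) → _) U = 𝟙 _ := by
  apply pullback.hom_ext
  · rw [stageMap_fst, Category.id_comp]
  · rw [stageMap_snd, Category.id_comp]
    refine (congrArg (_ ≫ ·) (WidePullback.hom_ext _ _ _ (fun i => ?_) ?_)).trans (Category.comp_id _)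
    · rw [idxMap_π, Category.id_comp]; rfl
    · rw [idxMap_base, Category.id_comp]

theorem idxMap_comp {a b c : ℕ} (g : Fin (a + 1) → Fin (b + 1)) (h : Fin (b + 1) → Fin (c + 1)) :
    idxMap f h ≫ idxMap f g = idxMap f (h ∘ g) := by
  refine WidePullback.hom_ext _ _ _ (fun i => ?_) ?_
  · rw [Category.assoc, idxMap_π, idxMap_π, idxMap_π]; rfl
  · rw [Category.assoc, idxMap_base, idxMap_base, idxMap_base]

theorem stageMap_comp {a b c : ℕ} (g : Fin (a + 1) → Fin (b + 1)) (h : Fin (b + 1) → Fin (c + 1))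
    (U : Y.Etale) : stageMap f h U ≫ stageMap f g U = stageMap f (h ∘ g) U := by
  apply pullback.hom_ext
  · rw [Category.assoc, stageMap_fst, stageMap_fst, stageMap_fst]
  · rw [Category.assoc, stageMap_snd, ← Category.assoc, stageMap_snd, stageMap_snd, Category.assoc,
      idxMap_comp]

/-- The cosimplicial sheaf. -/
def coObj : CosimplicialObject (EtCoh.Ab Y) where
  obj n := coSh f F n.len
  map g := coMap f F g.toOrderHom
  map_id n := by
    refine Sheaf.hom_ext (NatTrans.ext (funext fun U => ?_))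
    ext σ
    exact (Secs.res_congr (stageMap_id f n.len U.unop) (stageMap_cond f _ U.unop)
      (Category.id_comp _) _).trans (Secs.res_id _)
  map_comp {a b c} g h := by
    refine Sheaf.hom_ext (NatTrans.ext (funext fun U => ?_))
    ext σ
    refine Eq.trans ?_ (Secs.res_comp _ (stageMap_cond f _ U.unop) _ (stageMap_cond f _ U.unop) _).symm
    exact Secs.res_congr (stageMap_comp f g.toOrderHom h.toOrderHom U.unop).symm
      (stageMap_cond f _ U.unop) _ _

/-- The Čech complex. -/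
def coCx : CochainComplex (EtCoh.Ab Y) ℕ :=
  (AlgebraicTopology.alternatingCofaceMapComplex (EtCoh.Ab Y)).obj (coObj f F)

theorem coCx_X (n : ℕ) : (coCx f F).X n = coSh f F n := rfl

theorem coCx_d (n : ℕ) :
    (coCx f F).d n (n + 1) = ∑ i : Fin (n + 2), (-1 : ℤ) ^ (i : ℕ) • coMap f F (Fin.succAbove i) := by
  refine (CochainComplex.of_d (fun m => coSh f F m)
    (AlgebraicTopology.AlternatingCofaceMapComplex.objD (coObj f F)) n).trans ?_
  rfl

/-- The differential on values. -/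
theorem valAb_d {n : ℕ} {U : Y.Etale} (σ : CSec f F n U) (Ω : Type u) [Field Ω] [IsSepClosed Ω]
    (p : Spec (CommRingCat.of Ω) ⟶ ((EtCoh.bc (nvπ f (n + 1))).obj U).left)
    (η : Spec (CommRingCat.of Ω) ⟶ Y) (hp : p ≫ ((EtCoh.bc (nvπ f (n + 1))).obj U).hom ≫ nvπ f (n + 1) = η) :
    valAb (show CSec f F (n + 1) U from ((coCx f F).d n (n + 1)).hom.app (op U) σ) Ω p η hp =
      ∑ i : Fin (n + 2), (-1 : ℤ) ^ (i : ℕ) • valAb σ Ω (p ≫ stageMap f (Fin.succAbove i) U) η
        ((Category.assoc _ _ _).trans ((congrArg (p ≫ ·) (stageMap_cond f _ U)).trans hp)) := by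
  let ev : (coSh f F n ⟶ coSh f F (n + 1)) →+ (EtCoh.stalk η).obj F := AddMonoidHom.mk'
    (fun α => valAb (show CSec f F (n + 1) U from α.hom.app (op U) σ) Ω p η hp)
    (fun α β => valAb_add Ω p η hp _ _)
  show ev ((coCx f F).d n (n + 1)) = _
  rw [coCx_d, map_sum]
  refine Finset.sum_congr rfl fun i _ => ?_
  rw [map_zsmul]
  rfl

/-- The augmentation. -/
def coAug : F ⟶ (coCx f F).X 0 :=
  ObjectProperty.homMk
    { app := fun U => AddCommGrpCat.ofHom (AddMonoidHom.mk'
        (fun t : EtCoh.sect F U.unop => (Secs.ofSect (F := forgetSh F)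
          (pullback.fst U.unop.hom (nvπ f 0)) (bc_cond (nvπ f 0) U.unop) t : CSec f F 0 U.unop))
        (fun t t' => ofSect_add _ _ t t'))
      naturality := fun U V r => by
        ext t
        refine Secs.ext' fun Ω _ _ p η hp => ?_
        refine (gSh_map (F := forgetSh F) r.unop (p ≫ pullback.fst V.unop.hom (nvπ f 0))
          ((Category.assoc _ _ _).trans ((congrArg (p ≫ ·) (bc_cond (nvπ f 0) V.unop)).trans hp)) ?_ t).trans ?_
        · exact (Category.assoc _ _ _).trans ((congrArg ((p ≫ _) ≫ ·) (hom_left r.unop)).trans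
            ((Category.assoc _ _ _).trans ((congrArg (p ≫ ·) (bc_cond (nvπ f 0) V.unop)).trans hp)))
        · exact gSh_congr ((Category.assoc _ _ _).trans ((congrArg (p ≫ ·)
            (EtCoh.isPullback_bc_map (nvπ f 0) r.unop).w.symm).trans (Category.assoc _ _ _).symm)) _ _ _ }

theorem coAug_app (U : Y.Etale) (t : EtCoh.sect F U) :
    (coAug f F).hom.app (op U) t =
      (Secs.ofSect (F := forgetSh F) (pullback.fst U.hom (nvπ f 0)) (bc_cond (nvπ f 0) U) t : CSec f F 0 U) :=
  rfl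

theorem coAug_d : coAug f F ≫ (coCx f F).d 0 1 = 0 := by
  refine Sheaf.hom_ext (NatTrans.ext (funext fun U => ConcreteCategory.hom_ext _ _ fun t => ?_))
  refine EtSec.ext_valAb (F := F) (a := ((EtCoh.bc (nvπ f 1)).obj U.unop).hom ≫ nvπ f 1)
    fun Ω _ _ p η hp => ?_
  refine (valAb_d f F _ Ω p η hp).trans (Eq.trans ?_ (valAb_zero Ω p η hp).symm)
  rw [Fin.sum_univ_two]
  have e : ∀ i : Fin 2, valAb (show CSec f F 0 U.unop from (coAug f F).hom.app U t) Ω
      (p ≫ stageMap f (Fin.succAbove i) U.unop) η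
      ((Category.assoc _ _ _).trans ((congrArg (p ≫ ·) (stageMap_cond f _ U.unop)).trans hp)) =
      germ η F (fib η (p ≫ pullback.fst U.unop.hom (nvπ f 1))
        ((Category.assoc _ _ _).trans ((congrArg (p ≫ ·) (bc_cond (nvπ f 1) U.unop)).trans hp))) t := by
    intro i
    refine (valAb_ofSect (F := F) _ (bc_cond (nvπ f 0) U.unop) t Ω _ η _).trans ?_
    refine congrArg (fun q => germ η F q t) (Over.OverMorphism.ext ?_)
    exact (Category.assoc _ _ _).trans (congrArg (p ≫ ·) (stageMap_fst f _ U.unop))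
  refine (congrArg₂ (fun a b : (EtCoh.stalk η).obj F =>
    (-1 : ℤ) ^ ((0 : Fin 2) : ℕ) • a + (-1 : ℤ) ^ ((1 : Fin 2) : ℕ) • b) (e 0) (e 1)).trans ?_
  simp

end GrothLib.EtDesc19
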