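import Groth.Agent.Lib.EtSec.Global
import Groth.Agent.Lib.EtSite.BaseChange
import Groth.Agent.Lib.EtSite.StageOpen

/-!
# Relative sections near the fibres of integral morphisms

For an integral morphism `π : Z ⟶ Y` and a geometric point `η` of `Y`, relative sections over the
fibre come from relative sections over `Z ×_Y V` for an etale neighbourhood `V` of `η`, and two
relative sections which agree on the fibre agree near the fibre.
-/

set_option autoImplicit false
universe u

open CategoryTheory CategoryTheory.Limits AlgebraicGeometry Opposite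
open GrothLib.EtSite GrothLib.EtSec

set_option backward.isDefEq.respectTransparency.types false

noncomputable section

namespace GrothLib.EtDesc19

variable {Y : Scheme.{u}} {F : EtDesc.Sh Y}

/-- Sections which agree on the fibre over a point agree over a neighbourhood of the point. -/
theorem exists_open_eq {Z U : Scheme.{u}} (φ : Z ⟶ U) [IsIntegralHom φ] {b : Z ⟶ Y}
    {Ω : Type u} [Field Ω] [IsSepClosed Ω] (t : Spec (CommRingCat.of Ω) ⟶ U) (σ τ : Secs b F)
    (h : ∀ (Ω' : Type u) [Field Ω'] [IsSepClosed Ω'] (p : Spec (CommRingCat.of Ω') ⟶ Z)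
      (c : Spec (CommRingCat.of Ω') ⟶ Spec (CommRingCat.of Ω)), p ≫ φ = c ≫ t →
      ∀ (η' : Spec (CommRingCat.of Ω') ⟶ Y) (hp : p ≫ b = η'), σ.val Ω' p η' hp = τ.val Ω' p η' hp) :
    ∃ O : U.Opens, t.base default ∈ O ∧ ∀ z : Z, φ.base z ∈ O → z ∈ Secs.eqLocus σ τ := by
  let E : Set Z := Secs.eqLocus σ τ
  have hcl : IsClosed (φ.base '' Eᶜ) :=
    φ.isClosedMap _ (Secs.isOpen_eqLocus σ τ).isClosed_compl
  refine ⟨⟨(φ.base '' Eᶜ)ᶜ, hcl.isOpen_compl⟩, ?_, fun z hz => ?_⟩
  · rintro ⟨z, hz, hzt⟩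
    refine hz ?_
    obtain ⟨r, hr, -⟩ := Scheme.Pullback.exists_preimage_pullback (f := φ) (g := t) z default hzt
    obtain ⟨Ω', _, _, p, hp⟩ := Secs.exists_point r
    have hpz : (p ≫ pullback.fst φ t).base default = z := by
      rw [Scheme.Hom.comp_apply, hp, hr]
    rw [← hpz]
    refine (Secs.mem_eqLocus_iff σ τ (p ≫ pullback.fst φ t) _ rfl).2
      (h Ω' _ (p ≫ pullback.snd φ t) ?_ _ rfl)
    rw [Category.assoc, Category.assoc, pullback.condition]
  · exact Classical.not_not.1 fun hne => hz ⟨z, hne, rfl⟩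

variable {Z : Scheme.{u}} (π : Z ⟶ Y) [IsIntegralHom π]
  {Ω : Type u} [Field Ω] [IsAlgClosed Ω] {η : Spec (CommRingCat.of Ω) ⟶ Y}

/-- The fibre maps to every stage. -/
def toStage {V : Y.Etale} (v : (Scheme.pointSmallEtale η).fiber.obj V) :
    pullback π η ⟶ ((EtCoh.bc π).obj V).left :=
  pullback.lift (pullback.snd π η ≫ v.left) (pullback.fst π η) (by
    refine (Category.assoc _ _ _).trans ((congrArg (_ ≫ ·) (Over.w v)).trans ?_)
    exact pullback.condition.symm)

omit [IsIntegralHom π] in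
theorem toStage_snd {V : Y.Etale} (v : (Scheme.pointSmallEtale η).fiber.obj V) :
    toStage π v ≫ ((EtCoh.bc π).obj V).hom = pullback.fst π η :=
  pullback.lift_snd _ _ _

omit [IsIntegralHom π] in
theorem toStage_cond {V : Y.Etale} (v : (Scheme.pointSmallEtale η).fiber.obj V) :
    toStage π v ≫ ((EtCoh.bc π).obj V).hom ≫ π = pullback.fst π η ≫ π :=
  (Category.assoc _ _ _).symm.trans (congrArg (· ≫ π) (toStage_snd π v))

omit [IsIntegralHom π] in
theorem point_over {T : Z.Etale} {ξ : Spec (CommRingCat.of Ω) ⟶ Z} (hξ : ξ ≫ π = η)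
    (p : (Scheme.pointSmallEtale ξ).fiber.obj T) : p.left ≫ T.hom ≫ π = η :=
  (Category.assoc _ _ _).symm.trans ((congrArg (· ≫ π) (Over.w p)).trans hξ)

/-- The point of the fibre given by a point over `η`. -/
abbrev fibrePt {ξ : Spec (CommRingCat.of Ω) ⟶ Z} (hξ : ξ ≫ π = η) :
    Spec (CommRingCat.of Ω) ⟶ pullback π η :=
  pullback.lift ξ (𝟙 _) (hξ.trans (Category.id_comp η).symm)

omit [IsIntegralHom π] in
theorem fibrePt_over {ξ : Spec (CommRingCat.of Ω) ⟶ Z} (hξ : ξ ≫ π = η) :
    fibrePt π hξ ≫ pullback.fst π η ≫ π = η :=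
  (Category.assoc _ _ _).symm.trans ((congrArg (· ≫ π) (pullback.lift_fst _ _ _)).trans hξ)

/-- Sections over the fibre come from a neighbourhood. -/
theorem exists_extend (τ₀ : Secs (pullback.fst π η ≫ π) F) :
    ∃ (V : Y.Etale) (v : (Scheme.pointSmallEtale η).fiber.obj V)
      (τ : Secs (((EtCoh.bc π).obj V).hom ≫ π) F), τ.res (toStage π v) (toStage_cond π v) = τ₀ := by
  let P := ((EtDesc.pullSh π).obj F).obj
  let Rel : ∀ (ξ : Spec (CommRingCat.of Ω) ⟶ Z), ξ ≫ π = η → ∀ (T : Z.Etale),
      (Scheme.pointSmallEtale ξ).fiber.obj T → P.obj (op T) → Prop := fun ξ hξ T p s =>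
    (toSecs π F (U := T) s).val Ω p.left η (point_over π hξ p) =
      τ₀.val Ω (fibrePt π hξ) η (fibrePt_over π hξ)
  obtain ⟨V, v, z, hz⟩ := exists_global_section π (η := η) (P := P)
    ((isSheaf_iff_isSheaf_of_type _ _).1 ((EtDesc.pullSh π).obj F).property) Rel
    (fun ξ hξ T T' b p s => by
      have e : (toSecs π F (U := T') (P.map b.op s)).val Ω p.left η (point_over π hξ p) =
          (toSecs π F (U := T) s).val Ω ((Scheme.pointSmallEtale ξ).fiber.map b p).left η
            (point_over π hξ _) :=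
        congrArg (fun r : Secs (T'.hom ≫ π) F => r.val Ω p.left η (point_over π hξ p))
          (toSecs_map π F b s)
      exact ⟨fun h => e.symm.trans h, fun h => e.trans h⟩)
    (fun ξ₀ hξ₀ => by
      obtain ⟨V', v', hv', p', W, m, hm, t, hp', ht⟩ := τ₀.exists_rep (fibrePt π hξ₀)
      have h' : (p' ≫ v') ≫ pullback.fst π η ≫ π = η := by rw [hp']; exact fibrePt_over π hξ₀
      let l : Spec (CommRingCat.of Ω) ⟶ W.left := p' ≫ m
      have hl : l ≫ W.hom = η :=
        (Category.assoc _ _ _).trans ((congrArg (p' ≫ ·) hm).trans ((Category.assoc _ _ _).symm.trans h'))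
      let vW : (Scheme.pointSmallEtale η).fiber.obj W := fib η l hl
      let W' := (EtCoh.bc π).obj W
      let w := liftPt π vW ξ₀ hξ₀
      let qQ : pullback (W'.hom ≫ π) η ⟶ pullback π η :=
        pullback.lift (pullback.fst (W'.hom ≫ π) η ≫ W'.hom) (pullback.snd (W'.hom ≫ π) η)
          ((Category.assoc _ _ _).trans pullback.condition)
      have hc : (pullback.fst (W'.hom ≫ π) η ≫ pullback.fst W.hom π) ≫ W.hom =
          qQ ≫ pullback.fst π η ≫ π := by
        refine (Category.assoc _ _ _).trans ((congrArg (_ ≫ ·) (bc_cond π W)).trans ?_)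
        refine Eq.trans ?_ (Category.assoc _ _ _)
        refine Eq.trans (Category.assoc _ _ _).symm ?_
        exact congrArg (· ≫ π) (pullback.lift_fst _ _ _).symm
      let A₁ : Secs (qQ ≫ pullback.fst π η ≫ π) F := τ₀.res qQ rfl
      let A₂ : Secs (qQ ≫ pullback.fst π η ≫ π) F :=
        Secs.ofSect (pullback.fst (W'.hom ≫ π) η ≫ pullback.fst W.hom π) hc t
      let O : (pullback (W'.hom ≫ π) η).Opens := ⟨Secs.eqLocus A₁ A₂, Secs.isOpen_eqLocus A₁ A₂⟩
      obtain ⟨V, v, T, a, b, p₀, hb, hgood⟩ := exists_stage_open π W' hξ₀ w O fun l₁ h1 h2 => by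
        have hq : l₁ ≫ qQ = fibrePt π hξ₀ := by
          apply pullback.hom_ext
          · rw [Category.assoc]
            refine (congrArg (l₁ ≫ ·) (pullback.lift_fst _ _ _)).trans ?_
            refine (Category.assoc _ _ _).symm.trans ((congrArg (· ≫ W'.hom) h1).trans ?_)
            exact (Over.w w).trans (pullback.lift_fst _ _ _).symm
          · rw [Category.assoc]
            refine (congrArg (l₁ ≫ ·) (pullback.lift_snd _ _ _)).trans ?_
            exact h2.trans (pullback.lift_snd _ _ _).symm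
        have hη : l₁ ≫ qQ ≫ pullback.fst π η ≫ π = η :=
          (Category.assoc _ _ _).symm.trans ((congrArg (· ≫ _) hq).trans (fibrePt_over π hξ₀))
        refine (Secs.mem_eqLocus_iff A₁ A₂ l₁ η hη).2 ?_
        refine (τ₀.val_congr (hq.trans hp'.symm) _ h').trans ((ht Ω p' η h').trans ?_)
        refine gSh_congr ?_ _ _ t
        refine Eq.trans ?_ (Category.assoc _ _ _)
        exact ((congrArg (· ≫ pullback.fst W.hom π) h1).trans (pullback.lift_fst _ _ _)).symm
      let al : T.left ⟶ W'.left := a.left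
      have hm' : (al ≫ pullback.fst W.hom π) ≫ W.hom = T.hom ≫ π :=
        (Category.assoc _ _ _).trans ((congrArg (al ≫ ·) (bc_cond π W)).trans
          ((Category.assoc _ _ _).symm.trans (congrArg (· ≫ π) (hom_left a))))
      obtain ⟨s, hs⟩ := (toSecs_bijective π F T).2 (Secs.ofSect (al ≫ pullback.fst W.hom π) hm' t)
      refine ⟨V, v, T, b, s, p₀, hb, fun ξ hξ p hp => ?_⟩
      obtain ⟨l₁, h1, h2, hO⟩ := hgood ξ hξ p hp
      have hq : l₁ ≫ qQ = fibrePt π hξ := by
        apply pullback.hom_ext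
        · rw [Category.assoc]
          refine (congrArg (l₁ ≫ ·) (pullback.lift_fst _ _ _)).trans ?_
          refine (Category.assoc _ _ _).symm.trans ((congrArg (· ≫ W'.hom) h1).trans ?_)
          exact (Over.w ((Scheme.pointSmallEtale ξ).fiber.map a p)).trans (pullback.lift_fst _ _ _).symm
        · rw [Category.assoc]
          refine (congrArg (l₁ ≫ ·) (pullback.lift_snd _ _ _)).trans ?_
          exact h2.trans (pullback.lift_snd _ _ _).symm
      have hη : l₁ ≫ qQ ≫ pullback.fst π η ≫ π = η :=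
        (Category.assoc _ _ _).symm.trans ((congrArg (· ≫ _) hq).trans (fibrePt_over π hξ))
      have key := (Secs.mem_eqLocus_iff A₁ A₂ l₁ η hη).1 hO
      have e0 := congrArg (fun r : Secs (T.hom ≫ π) F => r.val Ω p.left η (point_over π hξ p)) hs
      refine e0.trans (Eq.trans (gSh_congr ?_ _ _ t) (key.symm.trans (τ₀.val_congr hq _ _)))
      refine Eq.trans ?_ (Category.assoc _ _ _)
      refine Eq.trans ?_ (congrArg (· ≫ pullback.fst W.hom π) h1).symm
      exact (Category.assoc _ _ _).symm)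
  refine ⟨V, v, toSecs π F z, Secs.eq_of_eqLocus _ _ fun x => ?_⟩
  have : IsIntegralHom (pullback.snd π η) := MorphismProperty.pullback_snd _ _ ‹_›
  obtain ⟨q, hq, rfl⟩ := exists_section_point (pullback.snd π η) x
  have hξ : (q ≫ pullback.fst π η) ≫ π = η := by
    rw [Category.assoc, pullback.condition, ← Category.assoc, hq, Category.id_comp]
  have hqf : q = fibrePt π hξ :=
    pullback.hom_ext (pullback.lift_fst _ _ _).symm (hq.trans (pullback.lift_snd _ _ _).symm)
  have hqη : q ≫ pullback.fst π η ≫ π = η := (Category.assoc _ _ _).symm.trans hξ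
  refine (Secs.mem_eqLocus_iff _ _ q η hqη).2 ?_
  have hstage : q ≫ toStage π v = (liftPt π v (q ≫ pullback.fst π η) hξ).left := by
    apply pullback.hom_ext
    · refine (Category.assoc _ _ _).trans ((congrArg (q ≫ ·) (pullback.lift_fst _ _ _)).trans ?_)
      refine Eq.trans ?_ (pullback.lift_fst _ _ _).symm
      exact (Category.assoc _ _ _).symm.trans ((congrArg (· ≫ v.left) hq).trans (Category.id_comp _))
    · refine (Category.assoc _ _ _).trans ((congrArg (q ≫ ·) (pullback.lift_snd _ _ _)).trans ?_)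
      exact (pullback.lift_snd _ _ _).symm
  refine ((toSecs π F z).val_congr hstage ?_ _).trans ((hz _ hξ).trans (τ₀.val_congr hqf.symm _ _))
  exact (Category.assoc _ _ _).trans ((congrArg (q ≫ ·) (toStage_cond π v)).trans hqη)

omit [IsIntegralHom π] in
theorem toStage_map {V W : Y.Etale} (a : W ⟶ V) (w : (Scheme.pointSmallEtale η).fiber.obj W) :
    toStage π w ≫ ((EtCoh.bc π).map a).left = toStage π ((Scheme.pointSmallEtale η).fiber.map a w) := by
  apply pullback.hom_ext
  · refine (Category.assoc _ _ _).trans ((congrArg (_ ≫ ·) (EtCoh.isPullback_bc_map π a).w).trans ?_)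
    refine Eq.trans ?_ (pullback.lift_fst _ _ _).symm
    refine (pullback.lift_fst_assoc _ _ _ _).trans ?_
    exact Category.assoc _ _ _
  · refine (Category.assoc _ _ _).trans ((congrArg (_ ≫ ·) (hom_left ((EtCoh.bc π).map a))).trans ?_)
    exact (toStage_snd π w).trans (toStage_snd π _).symm

/-- Sections over the fibre come from a neighbourhood refining a given one. -/
theorem exists_extend_over (U : Y.Etale) (t : (Scheme.pointSmallEtale η).fiber.obj U)
    (τ₀ : Secs (pullback.fst π η ≫ π) F) :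
    ∃ (V : Y.Etale) (e : V ⟶ U) (v : (Scheme.pointSmallEtale η).fiber.obj V)
      (_ : (Scheme.pointSmallEtale η).fiber.map e v = t)
      (τ : Secs (((EtCoh.bc π).obj V).hom ≫ π) F), τ.res (toStage π v) (toStage_cond π v) = τ₀ := by
  obtain ⟨V, v, τ, hτ⟩ := exists_extend π τ₀
  obtain ⟨⟨W, w⟩, ⟨a, ha⟩, ⟨b, hb⟩, -⟩ := IsCofilteredOrEmpty.cone_objs
    (C := (Scheme.pointSmallEtale η).fiber.Elements) ⟨V, v⟩ ⟨U, t⟩
  dsimp only at a b ha hb
  refine ⟨W, b, w, hb, τ.res ((EtCoh.bc π).map a).left
    ((Category.assoc _ _ _).symm.trans (congrArg (· ≫ π) (hom_left ((EtCoh.bc π).map a)))), ?_⟩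
  rw [Secs.res_comp, ← hτ]
  exact Secs.res_congr ((toStage_map π a w).trans (congrArg (toStage π) ha)) _ _ τ

end GrothLib.EtDesc19
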