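import Groth.Agent.Lib.EtDesc19.IntegralFibre
import Groth.Agent.Lib.EtDesc19.IntegralCx
import Mathlib.Algebra.Category.Grp.FilteredColimits
import Mathlib.CategoryTheory.Sites.LocallySurjective

/-!
# The Čech complex of sheaves of a surjective integral morphism is a resolution
-/

set_option autoImplicit false
universe u

open CategoryTheory CategoryTheory.Limits AlgebraicGeometry Opposite
open GrothLib.EtSite GrothLib.EtSec GrothLib.BigEt

set_option backward.isDefEq.respectTransparency.types false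
set_option backward.isDefEq.respectTransparency false

noncomputable section

namespace GrothLib.EtDesc19

variable {X Y : Scheme.{u}} (f : X ⟶ Y) (F : EtCoh.Ab Y)

section point

variable {Ω : Type u} [Field Ω] {η : Spec (CommRingCat.of Ω) ⟶ Y}
  (s : Spec (CommRingCat.of Ω) ⟶ X) (hs : s ≫ f = η)
  {T : Scheme.{u}} (c : T ⟶ Spec (CommRingCat.of Ω))

/-- Prepend the chosen point. -/
def consPt {m : ℕ} (x : T ⟶ nvX f m) (h : x ≫ nvπ f m = c ≫ η) : T ⟶ nvX f (m + 1) :=
  WidePullback.lift (c ≫ η)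
    (Fin.cases (c ≫ s) (fun j => x ≫ WidePullback.π (fun _ : Fin (m + 1) => f) j)) (fun i => by
      induction i using Fin.cases with
      | zero => exact (Category.assoc _ _ _).trans (congrArg (c ≫ ·) hs)
      | succ j =>
        exact (Category.assoc _ _ _).trans
          ((congrArg (x ≫ ·) (WidePullback.π_arrow (fun _ : Fin (m + 1) => f) j)).trans h))

theorem consPt_base {m : ℕ} (x : T ⟶ nvX f m) (h : x ≫ nvπ f m = c ≫ η) :
    consPt f s hs c x h ≫ nvπ f (m + 1) = c ≫ η :=
  WidePullback.lift_base _ _ _ _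

theorem consPt_π_zero {m : ℕ} (x : T ⟶ nvX f m) (h : x ≫ nvπ f m = c ≫ η) :
    consPt f s hs c x h ≫ WidePullback.π (fun _ : Fin (m + 1 + 1) => f) 0 = c ≫ s :=
  WidePullback.lift_π _ _ _ _ _

theorem consPt_π_succ {m : ℕ} (x : T ⟶ nvX f m) (h : x ≫ nvπ f m = c ≫ η) (j : Fin (m + 1)) :
    consPt f s hs c x h ≫ WidePullback.π (fun _ : Fin (m + 1 + 1) => f) j.succ =
      x ≫ WidePullback.π (fun _ : Fin (m + 1) => f) j :=
  WidePullback.lift_π _ _ _ _ _

theorem idx_over {n m : ℕ} (g : Fin (n + 1) → Fin (m + 1)) (x : T ⟶ nvX f m)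
    (h : x ≫ nvπ f m = c ≫ η) : (x ≫ idxMap f g) ≫ nvπ f n = c ≫ η :=
  (Category.assoc _ _ _).trans ((congrArg (x ≫ ·) (idxMap_base f g)).trans h)

theorem consPt_face_zero {m : ℕ} (x : T ⟶ nvX f m) (h : x ≫ nvπ f m = c ≫ η) :
    consPt f s hs c x h ≫ idxMap f (Fin.succAbove (0 : Fin (m + 1 + 1))) = x := by
  refine WidePullback.hom_ext _ _ _ (fun i => ?_) ?_
  · rw [Category.assoc, idxMap_π, Fin.succAbove_zero, consPt_π_succ]
  · rw [Category.assoc, idxMap_base, consPt_base, h]

theorem consPt_face_succ {m : ℕ} (x : T ⟶ nvX f (m + 1)) (h : x ≫ nvπ f (m + 1) = c ≫ η)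
    (i : Fin (m + 2)) :
    consPt f s hs c x h ≫ idxMap f (Fin.succAbove i.succ) =
      consPt f s hs c (x ≫ idxMap f (Fin.succAbove i)) (idx_over f c _ x h) := by
  refine WidePullback.hom_ext _ _ _ (fun j => ?_) ?_
  · rw [Category.assoc, idxMap_π]
    cases j using Fin.cases with
    | zero => rw [Fin.succ_succAbove_zero, consPt_π_zero, consPt_π_zero]
    | succ j => rw [Fin.succ_succAbove_succ, consPt_π_succ, consPt_π_succ, Category.assoc, idxMap_π]
  · rw [Category.assoc, idxMap_base, consPt_base, consPt_base]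

/-- The constant point. -/
def constPt : Spec (CommRingCat.of Ω) ⟶ nvX f 0 := WidePullback.lift η (fun _ => s) (fun _ => hs)

theorem constPt_base : constPt f s hs ≫ nvπ f 0 = η := WidePullback.lift_base _ _ _ _

theorem consPt_face_one (x : T ⟶ nvX f 0) (h : x ≫ nvπ f 0 = c ≫ η) (i : Fin 1) :
    consPt f s hs c x h ≫ idxMap f (Fin.succAbove i.succ) = c ≫ constPt f s hs := by
  refine WidePullback.hom_ext _ _ _ (fun j => ?_) ?_
  · obtain rfl : j = 0 := Fin.fin_one_eq_zero j
    rw [Category.assoc, idxMap_π, Fin.succ_succAbove_zero, consPt_π_zero, Category.assoc, constPt,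
      WidePullback.lift_π]
  · rw [Category.assoc, idxMap_base, consPt_base, Category.assoc, constPt_base]

variable [IsSepClosed Ω] {U : Y.Etale} (t : (Scheme.pointSmallEtale η).fiber.obj U)

/-- A point of a stage over the chosen point. -/
def ptU {m : ℕ} (x : T ⟶ nvX f m) (h : x ≫ nvπ f m = c ≫ η) :
    T ⟶ ((EtCoh.bc (nvπ f m)).obj U).left :=
  pullback.lift (c ≫ t.left) x
    ((Category.assoc _ _ _).trans ((congrArg (c ≫ ·) (Over.w t)).trans h.symm))

theorem ptU_over {m : ℕ} (x : T ⟶ nvX f m) (h : x ≫ nvπ f m = c ≫ η) :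
    ptU f c t x h ≫ ((EtCoh.bc (nvπ f m)).obj U).hom ≫ nvπ f m = c ≫ η :=
  (Category.assoc _ _ _).symm.trans ((congrArg (· ≫ nvπ f m) (pullback.lift_snd _ _ _)).trans h)

theorem ptU_congr {m : ℕ} {x x' : T ⟶ nvX f m} (e : x = x') (h : x ≫ nvπ f m = c ≫ η)
    (h' : x' ≫ nvπ f m = c ≫ η) : ptU f c t x h = ptU f c t x' h' := by
  subst e; rfl

theorem ptU_stage {n m : ℕ} (g : Fin (n + 1) → Fin (m + 1)) (x : T ⟶ nvX f m)
    (h : x ≫ nvπ f m = c ≫ η) :
    ptU f c t x h ≫ stageMap f g U = ptU f c t (x ≫ idxMap f g) (idx_over f c g x h) := by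
  apply pullback.hom_ext
  · refine (Category.assoc _ _ _).trans ((congrArg (_ ≫ ·) (stageMap_fst f g U)).trans ?_)
    exact (pullback.lift_fst _ _ _).trans (pullback.lift_fst _ _ _).symm
  · refine (Category.assoc _ _ _).trans ((congrArg (_ ≫ ·) (stageMap_snd f g U)).trans ?_)
    refine Eq.trans ?_ (pullback.lift_snd _ _ _).symm
    exact (Category.assoc _ _ _).symm.trans (congrArg (· ≫ idxMap f g) (pullback.lift_snd _ _ _))

theorem ptU_map {V : Y.Etale} (e : V ⟶ U) (v : (Scheme.pointSmallEtale η).fiber.obj V)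
    (hv : (Scheme.pointSmallEtale η).fiber.map e v = t) {m : ℕ} (x : T ⟶ nvX f m)
    (h : x ≫ nvπ f m = c ≫ η) :
    ptU f c v x h ≫ ((EtCoh.bc (nvπ f m)).map e).left = ptU f c t x h := by
  subst hv
  apply pullback.hom_ext
  · refine (Category.assoc _ _ _).trans
      ((congrArg (_ ≫ ·) (EtCoh.isPullback_bc_map (nvπ f m) e).w).trans ?_)
    refine Eq.trans ?_ (pullback.lift_fst _ _ _).symm
    exact (pullback.lift_fst_assoc _ _ _ _).trans (Category.assoc _ _ _)
  · refine (Category.assoc _ _ _).trans ((congrArg (_ ≫ ·) (hom_left ((EtCoh.bc (nvπ f m)).map e))).trans ?_)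
    exact (pullback.lift_snd _ _ _).trans (pullback.lift_snd _ _ _).symm

theorem eq_ptU {m : ℕ} (p : T ⟶ ((EtCoh.bc (nvπ f m)).obj U).left)
    (h : p ≫ pullback.fst U.hom (nvπ f m) = c ≫ t.left) :
    ∃ hx : (p ≫ pullback.snd U.hom (nvπ f m)) ≫ nvπ f m = c ≫ η,
      p = ptU f c t (p ≫ pullback.snd U.hom (nvπ f m)) hx := by
  refine ⟨?_, pullback.hom_ext (h.trans (pullback.lift_fst _ _ _).symm) (pullback.lift_snd _ _ _).symm⟩
  refine (Category.assoc _ _ _).trans ((congrArg (p ≫ ·) pullback.condition.symm).trans ?_)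
  exact (Category.assoc _ _ _).symm.trans ((congrArg (· ≫ U.hom) h).trans
    ((Category.assoc _ _ _).trans (congrArg (c ≫ ·) (Over.w t))))

end point

/-- A point of a base change above given points. -/
theorem exists_bc_point {Z : Scheme.{u}} (π : Z ⟶ Y) {U V : Y.Etale} (g : V ⟶ U)
    (z : ((EtCoh.bc π).obj U).left) (w : V.left) (hw : g.left.base w = (pullback.fst U.hom π).base z) :
    ∃ z' : ((EtCoh.bc π).obj V).left, ((EtCoh.bc π).map g).left.base z' = z := by
  have sq := EtCoh.isPullback_bc_map π g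
  obtain ⟨y, hy, -⟩ := Scheme.Pullback.exists_preimage_pullback
    (f := (pullback.fst U.hom π : ((EtCoh.bc π).obj U).left ⟶ U.left)) (g := g.left) z w hw.symm
  refine ⟨sq.isoPullback.inv y, ?_⟩
  rw [← Scheme.Hom.comp_apply, IsPullback.isoPullback_inv_fst]
  exact hy

section values

variable {f F} {Ω : Type u} [Field Ω] [IsSepClosed Ω] {η : Spec (CommRingCat.of Ω) ⟶ Y}
  {s : Spec (CommRingCat.of Ω) ⟶ X} (hs : s ≫ f = η)
  {U : Y.Etale} (t : (Scheme.pointSmallEtale η).fiber.obj U)
  {Ω' : Type u} [Field Ω'] [IsSepClosed Ω'] (c : Spec (CommRingCat.of Ω') ⟶ Spec (CommRingCat.of Ω))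

/-- The value at a point over the chosen point. -/
def valPt {m : ℕ} (σ : CSec f F m U) (x : Spec (CommRingCat.of Ω') ⟶ nvX f m)
    (h : x ≫ nvπ f m = c ≫ η) : (EtCoh.stalk (c ≫ η)).obj F :=
  valAb σ Ω' (ptU f c t x h) (c ≫ η) (ptU_over f c t x h)

theorem valPt_congr {m : ℕ} (σ : CSec f F m U) {x x' : Spec (CommRingCat.of Ω') ⟶ nvX f m}
    (e : x = x') (h : x ≫ nvπ f m = c ≫ η) (h' : x' ≫ nvπ f m = c ≫ η) :
    valPt t c σ x h = valPt t c σ x' h' := by
  subst e; rfl

theorem valPt_d {m : ℕ} (σ : CSec f F m U) (x : Spec (CommRingCat.of Ω') ⟶ nvX f (m + 1))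
    (h : x ≫ nvπ f (m + 1) = c ≫ η) :
    valPt t c (show CSec f F (m + 1) U from ((coCx f F).d m (m + 1)).hom.app (op U) σ) x h =
      ∑ i : Fin (m + 2), (-1 : ℤ) ^ (i : ℕ) •
        valPt t c σ (x ≫ idxMap f (Fin.succAbove i)) (idx_over f c _ x h) :=
  (valAb_d f F σ Ω' _ _ _).trans (Finset.sum_congr rfl fun i _ =>
    congrArg (fun r => (-1 : ℤ) ^ (i : ℕ) • r)
      (congrArg (stalkForget (c ≫ η) F) (σ.val_congr (ptU_stage f c t _ x h) _ _)))

theorem valPt_cocycle {m : ℕ} (σ : CSec f F m U)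
    (hσ : ((coCx f F).d m (m + 1)).hom.app (op U) σ = 0)
    (x : Spec (CommRingCat.of Ω') ⟶ nvX f m) (h : x ≫ nvπ f m = c ≫ η) :
    valPt t c σ x h = ∑ i : Fin (m + 1), (-1 : ℤ) ^ (i : ℕ) •
      valPt t c σ (consPt f s hs c x h ≫ idxMap f (Fin.succAbove i.succ))
        (idx_over f c _ _ (consPt_base f s hs c x h)) := by
  have h0 := valPt_d t c σ (consPt f s hs c x h) (consPt_base f s hs c x h)
  rw [Fin.sum_univ_succ] at h0
  simp only [Fin.val_zero, pow_zero, one_smul, Fin.val_succ, pow_succ, mul_neg, mul_one, neg_smul,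
    Finset.sum_neg_distrib] at h0
  have hz : valPt t c (show CSec f F (m + 1) U from ((coCx f F).d m (m + 1)).hom.app (op U) σ)
      (consPt f s hs c x h) (consPt_base f s hs c x h) = 0 :=
    (congrArg (fun r : CSec f F (m + 1) U => valPt t c r (consPt f s hs c x h) (consPt_base f s hs c x h))
      (show (show CSec f F (m + 1) U from ((coCx f F).d m (m + 1)).hom.app (op U) σ) = 0 from hσ)).trans
      (valAb_zero _ _ _ _)
  exact (valPt_congr t c σ (consPt_face_zero f s hs c x h).symm h (idx_over f c _ _ (consPt_base f s hs c x h))).trans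
    (add_neg_eq_zero.1 (h0.symm.trans hz))

end values

variable {f F} [IsIntegralHom f] [Surjective f]

omit [IsIntegralHom f] [Surjective f] in
theorem map_app {n : ℕ} {U V : Y.Etale} (e : V ⟶ U) (σ : CSec f F n U) :
    (coSh f F n).obj.map e.op σ = σ.res ((EtCoh.bc (nvπ f n)).map e).left
      (Over.w ((Over.map (nvπ f n)).map ((EtFppf.a (nvX f n)).map ((EtCoh.bc (nvπ f n)).map e)))) :=
  rfl

omit [IsIntegralHom f] [Surjective f] in
theorem map_map {n : ℕ} {U V W : Y.Etale} (e : V ⟶ U) (k : W ⟶ V) (σ : CSec f F n U) :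
    (coSh f F n).obj.map k.op ((coSh f F n).obj.map e.op σ) = (coSh f F n).obj.map (k ≫ e).op σ :=
  (ConcreteCategory.congr_hom ((coSh f F n).obj.map_comp e.op k.op) σ).symm

omit [Surjective f] in
/-- Two elements of a stage which agree on the fibre over a point agree near the point. -/
theorem exists_nbhd_map_eq {n : ℕ} {V : Y.Etale} {Ω : Type u} [Field Ω] [IsSepClosed Ω]
    {η : Spec (CommRingCat.of Ω) ⟶ Y} (v : (Scheme.pointSmallEtale η).fiber.obj V)
    (σ τ : CSec f F n V)
    (h : ∀ (Ω' : Type u) [Field Ω'] [IsSepClosed Ω'] (c : Spec (CommRingCat.of Ω') ⟶ Spec (CommRingCat.of Ω))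
      (x : Spec (CommRingCat.of Ω') ⟶ nvX f n) (hx : x ≫ nvπ f n = c ≫ η),
      valPt v c σ x hx = valPt v c τ x hx) :
    ∃ (V' : Y.Etale) (e : V' ⟶ V) (w : V'.left),
      e.left.base w = v.left.base (default : Spec (CommRingCat.of Ω)) ∧
      (coSh f F n).obj.map e.op σ = (coSh f F n).obj.map e.op τ := by
  have := isIntegralHom_nvπ f n
  let φ : ((EtCoh.bc (nvπ f n)).obj V).left ⟶ V.left := pullback.fst V.hom (nvπ f n)
  have : IsIntegralHom φ := MorphismProperty.pullback_fst _ _ ‹_›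
  obtain ⟨O, hO, hE⟩ := exists_open_eq φ v.left σ τ fun Ω' _ _ p c hp η' hp' => by
    obtain ⟨hx, e⟩ := eq_ptU f c v p hp
    have hη : η' = c ≫ η := by
      rw [← hp']
      refine Eq.trans (congrArg (· ≫ _) e) ?_
      exact ptU_over f c v _ hx
    subst hη
    refine (stalkForget_bijective (c ≫ η) F).1 ?_
    exact (congrArg (stalkForget (c ≫ η) F) (σ.val_congr e hp' (ptU_over f c v _ hx))).trans
      ((h Ω' c _ hx).trans (congrArg (stalkForget (c ≫ η) F) (τ.val_congr e hp' (ptU_over f c v _ hx))).symm)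
  refine ⟨opensObj V O, opensHom V O, ⟨_, hO⟩, rfl, Secs.eq_of_eqLocus _ _ fun z => ?_⟩
  rw [map_app, map_app]
  refine (Secs.mem_eqLocus_res _ _ σ τ z).2 (hE _ ?_)
  have hw := congrArg (fun k : ((EtCoh.bc (nvπ f n)).obj (opensObj V O)).left ⟶ V.left => k.base z)
    (EtCoh.isPullback_bc_map (nvπ f n) (opensHom V O)).w
  refine Eq.mpr (congrArg (fun y => y ∈ O) ((Scheme.Hom.comp_apply _ _ _).symm.trans hw)) ?_
  exact ((pullback.fst (opensObj V O).hom (nvπ f n)).base z).2

theorem exists_point_over {Ω : Type u} [Field Ω] [IsAlgClosed Ω] (η : Spec (CommRingCat.of Ω) ⟶ Y) :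
    ∃ s : Spec (CommRingCat.of Ω) ⟶ X, s ≫ f = η := by
  have : IsIntegralHom (pullback.snd f η) := MorphismProperty.pullback_snd _ _ ‹IsIntegralHom f›
  obtain ⟨r, hr, -⟩ := Scheme.Pullback.exists_preimage_pullback (f := f) (g := η)
    (f.surjective (η.base default)).choose default (f.surjective (η.base default)).choose_spec
  obtain ⟨q, hq, -⟩ := exists_section_point (pullback.snd f η) r
  exact ⟨q ≫ pullback.fst f η, by rw [Category.assoc, pullback.condition, ← Category.assoc, hq, Category.id_comp]⟩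

theorem exists_primitive {n : ℕ} {U : Y.Etale} (σ : CSec f F (n + 1) U)
    (hσ : ((coCx f F).d (n + 1) (n + 2)).hom.app (op U) σ = 0) (u : U.left) :
    ∃ (V : Y.Etale) (e : V ⟶ U) (w : V.left) (ψ : CSec f F n V), e.left.base w = u ∧
      ((coCx f F).d n (n + 1)).hom.app (op V) ψ = (coSh f F (n + 1)).obj.map e.op σ := by
  obtain ⟨Ω, _, _, t₀, rfl⟩ := Secs.exists_point u
  let η := t₀ ≫ U.hom
  let t : (Scheme.pointSmallEtale η).fiber.obj U := fib η t₀ rfl
  obtain ⟨s, hs⟩ := exists_point_over (f := f) η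
  let Q := pullback (nvπ f n) η
  let cs : Q ⟶ ((EtCoh.bc (nvπ f (n + 1))).obj U).left :=
    ptU f (pullback.snd (nvπ f n) η) t
      (consPt f s hs (pullback.snd (nvπ f n) η) (pullback.fst (nvπ f n) η) pullback.condition)
      (consPt_base _ _ _ _ _ _)
  let τ₀ : Secs (pullback.fst (nvπ f n) η ≫ nvπ f n) (forgetSh F) :=
    σ.res cs ((ptU_over f _ t _ _).trans pullback.condition.symm)
  have := isIntegralHom_nvπ f n
  obtain ⟨V, e, v, hv, ψ, hψ⟩ := exists_extend_over (nvπ f n) U t τ₀
  obtain ⟨V', e', w, hw, he⟩ := exists_nbhd_map_eq v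
    (show CSec f F (n + 1) V from ((coCx f F).d n (n + 1)).hom.app (op V) ψ)
    (show CSec f F (n + 1) V from (coSh f F (n + 1)).obj.map e.op σ) fun Ω' _ _ c x hx => by
      refine (valPt_d v c ψ x hx).trans ?_
      have hR : valPt v c (show CSec f F (n + 1) V from (coSh f F (n + 1)).obj.map e.op σ) x hx =
          valPt t c σ x hx :=
        congrArg (stalkForget (c ≫ η) F) (σ.val_congr (ptU_map f c t e v hv x hx)
          (Eq.trans (congrArg (· ≫ _) (ptU_map f c t e v hv x hx)) (ptU_over f c t x hx)) _)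
      rw [hR, valPt_cocycle hs t c σ hσ x hx]
      refine Finset.sum_congr rfl fun i _ => congrArg (fun r => (-1 : ℤ) ^ (i : ℕ) • r) ?_
      let y := x ≫ idxMap f (Fin.succAbove i)
      have hy : y ≫ nvπ f n = c ≫ η := idx_over f c _ x hx
      let r : Spec (CommRingCat.of Ω') ⟶ Q := pullback.lift y c hy
      have hr : r ≫ toStage (nvπ f n) v = ptU f c v y hy := by
        apply pullback.hom_ext
        · refine (Category.assoc _ _ _).trans ((congrArg (r ≫ ·) (pullback.lift_fst _ _ _)).trans ?_)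
          refine Eq.trans ?_ (pullback.lift_fst _ _ _).symm
          exact (Category.assoc _ _ _).symm.trans (congrArg (· ≫ v.left) (pullback.lift_snd _ _ _))
        · refine (Category.assoc _ _ _).trans ((congrArg (r ≫ ·) (pullback.lift_snd _ _ _)).trans ?_)
          exact (pullback.lift_fst _ _ _).trans (pullback.lift_snd _ _ _).symm
      have hr' : r ≫ cs = ptU f c t (consPt f s hs c x hx ≫ idxMap f (Fin.succAbove i.succ))
          (idx_over f c _ _ (consPt_base f s hs c x hx)) := by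
        apply pullback.hom_ext
        · refine (Category.assoc _ _ _).trans ((congrArg (r ≫ ·) (pullback.lift_fst _ _ _)).trans ?_)
          refine Eq.trans ?_ (pullback.lift_fst _ _ _).symm
          exact (Category.assoc _ _ _).symm.trans (congrArg (· ≫ t.left) (pullback.lift_snd _ _ _))
        · refine (Category.assoc _ _ _).trans ((congrArg (r ≫ ·) (pullback.lift_snd _ _ _)).trans ?_)
          refine Eq.trans ?_ (pullback.lift_snd _ _ _).symm
          rw [consPt_face_succ]
          refine WidePullback.hom_ext _ _ _ (fun j => ?_) ?_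
          · cases j using Fin.cases with
            | zero =>
              rw [Category.assoc, consPt_π_zero, consPt_π_zero, ← Category.assoc, pullback.lift_snd]
            | succ j =>
              rw [Category.assoc, consPt_π_succ, consPt_π_succ, ← Category.assoc, pullback.lift_fst]
          · rw [Category.assoc, consPt_base, consPt_base, ← Category.assoc, pullback.lift_snd]
      have hQ : r ≫ pullback.fst (nvπ f n) η ≫ nvπ f n = c ≫ η :=
        (Category.assoc _ _ _).symm.trans ((congrArg (· ≫ nvπ f n) (pullback.lift_fst _ _ _)).trans hy)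
      have key := congrArg (fun ρ : Secs (pullback.fst (nvπ f n) η ≫ nvπ f n) (forgetSh F) =>
        valAb ρ Ω' r (c ≫ η) hQ) hψ
      refine (congrArg (stalkForget (c ≫ η) F) (ψ.val_congr hr ?_ _)).symm.trans
        (key.trans (congrArg (stalkForget (c ≫ η) F) (σ.val_congr hr' ?_ _)))
      · exact (congrArg (· ≫ _) hr).trans (ptU_over f c v y hy)
      · exact (congrArg (· ≫ _) hr').trans (ptU_over f c t _ _)
  refine ⟨V', e' ≫ e, w, (coSh f F n).obj.map e'.op ψ, ?_, ?_⟩
  · show e.left.base (e'.left.base w) = _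
    rw [hw]
    exact base_fiber_map η e v t hv
  · refine (NatTrans.naturality_apply ((coCx f F).d n (n + 1)).hom e'.op ψ).trans (he.trans ?_)
    exact map_map e e' σ

omit [IsIntegralHom f] [Surjective f] in
theorem iCycles_app_injective (n : ℕ) (U : Y.Etale) :
    Function.Injective (((coCx f F).iCycles n).hom.app (op U)) :=
  (AddCommGrpCat.mono_iff_injective _).1
    ((sheafToPresheaf Y.smallEtaleTopology AddCommGrpCat.{u + 1} ⋙
      (evaluation _ _).obj (op U)).map_mono ((coCx f F).iCycles n))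

theorem exactAt_coCx (n : ℕ) : (coCx f F).ExactAt (n + 1) := by
  have : Sheaf.IsLocallySurjective ((coCx f F).toCycles n (n + 1)) := ⟨fun {U} z => ?_⟩
  · have hπ : (coCx f F).homologyπ (n + 1) = 0 := by
      rw [← cancel_epi ((coCx f F).toCycles n (n + 1)), comp_zero,
        HomologicalComplex.toCycles_comp_homologyπ]
    rw [HomologicalComplex.exactAt_iff_isZero_homology]
    exact IsZero.of_epi_eq_zero _ hπ
  · rw [mem_topology_iff]
    intro u
    let σ : CSec f F (n + 1) U := ((coCx f F).iCycles (n + 1)).hom.app (op U) z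
    have hσ : ((coCx f F).d (n + 1) (n + 2)).hom.app (op U) σ = 0 :=
      ConcreteCategory.congr_hom (congrArg (fun r => r.hom.app (op U))
        ((coCx f F).iCycles_d (n + 1) (n + 2))) z
    obtain ⟨V, e, w, ψ, hw, hψ⟩ := exists_primitive σ hσ u
    refine ⟨V, e, w, ⟨ψ, iCycles_app_injective (n + 1) V ?_⟩, hw⟩
    refine (ConcreteCategory.congr_hom (congrArg (fun r : (coCx f F).X n ⟶ (coCx f F).X (n + 1) =>
      r.hom.app (op V)) ((coCx f F).toCycles_i n (n + 1))) ψ).trans (hψ.trans ?_)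
    exact (NatTrans.naturality_apply ((coCx f F).iCycles (n + 1)).hom e.op z).symm

variable (f F) in
/-- The augmentation into the cycles. -/
def coAugCyc : F ⟶ (coCx f F).cycles 0 :=
  (coCx f F).liftCycles (coAug f F) 1 (by simp) (coAug_d f F)

omit [IsIntegralHom f] [Surjective f] in
theorem coAugCyc_i (U : Y.Etale) (b : EtCoh.sect F U) :
    ((coCx f F).iCycles 0).hom.app (op U) ((coAugCyc f F).hom.app (op U) b) =
      (coAug f F).hom.app (op U) b :=
  ConcreteCategory.congr_hom (congrArg (fun r => r.hom.app (op U))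
    ((coCx f F).liftCycles_i (coAug f F) 1 (by simp) (coAug_d f F))) b

omit [IsIntegralHom f] in
theorem coAug_injective (U : Y.Etale) : Function.Injective ((coAug f F).hom.app (op U)) := by
  intro a b hab
  refine secOf_injective (forgetSh F) U (Secs.eq_of_eqLocus _ _ fun x => ?_)
  let φ : ((EtCoh.bc (nvπ f 0)).obj U).left ⟶ U.left := pullback.fst U.hom (nvπ f 0)
  have : Surjective φ := MorphismProperty.pullback_fst _ _ (surjective_nvπ f 0)
  obtain ⟨z, rfl⟩ := φ.surjective x
  rw [← Secs.mem_eqLocus_res φ (bc_cond (nvπ f 0) U) (secOf (forgetSh F) a) (secOf (forgetSh F) b),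
    ← ofSect_eq, ← ofSect_eq]
  rw [coAug_app, coAug_app] at hab
  exact (Secs.eqLocus_eq_univ hab).ge (Set.mem_univ z)

theorem exists_aug_local {U : Y.Etale} (φ : CSec f F 0 U)
    (hφ : ((coCx f F).d 0 1).hom.app (op U) φ = 0) (u : U.left) :
    ∃ (V : Y.Etale) (e : V ⟶ U) (w : V.left) (b : EtCoh.sect F V), e.left.base w = u ∧
      (coAug f F).hom.app (op V) b = (coSh f F 0).obj.map e.op φ := by
  obtain ⟨Ω, _, _, t₀, rfl⟩ := Secs.exists_point u
  let η := t₀ ≫ U.hom
  let t : (Scheme.pointSmallEtale η).fiber.obj U := fib η t₀ rfl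
  obtain ⟨s, hs⟩ := exists_point_over (f := f) η
  have hk : constPt f s hs ≫ nvπ f 0 = 𝟙 _ ≫ η := (constPt_base f s hs).trans (Category.id_comp η).symm
  let y₀ : Spec (CommRingCat.of Ω) ⟶ ((EtCoh.bc (nvπ f 0)).obj U).left :=
    ptU f (𝟙 _) t (constPt f s hs) hk
  have hy₀ : y₀ ≫ ((EtCoh.bc (nvπ f 0)).obj U).hom ≫ nvπ f 0 = η :=
    (ptU_over f _ t _ hk).trans (Category.id_comp η)
  obtain ⟨W, l, hl, b, hb⟩ := exists_gSh (φ.val Ω y₀ η hy₀)
  obtain ⟨⟨V, v⟩, ⟨a, ha⟩, ⟨e, hv⟩, -⟩ := IsCofilteredOrEmpty.cone_objs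
    (C := (Scheme.pointSmallEtale η).fiber.Elements) ⟨W, fib η l hl⟩ ⟨U, t⟩
  dsimp only at a e ha hv
  let b' : EtCoh.sect F V := F.obj.map a.op b
  have hvl : v.left ≫ V.hom = η := Over.w v
  have hb' : gSh (forgetSh F) v.left hvl b' = φ.val Ω y₀ η hy₀ := by
    have ea : v.left ≫ a.left = l := congrArg CommaMorphism.left ha
    have h' : (v.left ≫ a.left) ≫ W.hom = η := by rw [ea]; exact hl
    exact (gSh_map (F := forgetSh F) a v.left hvl h' b).trans ((gSh_congr ea h' hl b).trans hb)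
  let A : CSec f F 0 V := (coAug f F).hom.app (op V) b'
  let B : CSec f F 0 V := (coSh f F 0).obj.map e.op φ
  let yV : Spec (CommRingCat.of Ω) ⟶ ((EtCoh.bc (nvπ f 0)).obj V).left :=
    ptU f (𝟙 _) v (constPt f s hs) hk
  have hyV : yV ≫ ((EtCoh.bc (nvπ f 0)).obj V).hom ≫ nvπ f 0 = η :=
    (ptU_over f _ v _ hk).trans (Category.id_comp η)
  have hmem : yV.base default ∈ Secs.eqLocus A B := by
    refine (Secs.mem_eqLocus_iff A B yV η hyV).2 ?_
    refine (gSh_congr (F := forgetSh F) ((pullback.lift_fst _ _ _).trans (Category.id_comp _)) _ hvl b').trans (hb'.trans ?_)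
    exact (φ.val_congr (ptU_map f _ t e v hv _ hk) ((congrArg (· ≫ _) (ptU_map f _ t e v hv _ hk)).trans hy₀) hy₀).symm
  obtain ⟨V', e', w, hw, he⟩ := exists_nbhd_map_eq v A B fun Ω' _ _ c x hx => by
    have hB : ∀ (x : Spec (CommRingCat.of Ω') ⟶ nvX f 0) (hx : x ≫ nvπ f 0 = c ≫ η),
        valPt v c B x hx = valPt t c φ x hx := fun x hx =>
      congrArg (stalkForget (c ≫ η) F) (φ.val_congr (ptU_map f c t e v hv x hx)
        ((congrArg (· ≫ _) (ptU_map f c t e v hv x hx)).trans (ptU_over f c t x hx)) _)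
    have hA : ∀ (x : Spec (CommRingCat.of Ω') ⟶ nvX f 0) (hx : x ≫ nvπ f 0 = c ≫ η)
        (hcv : (c ≫ v.left) ≫ V.hom = c ≫ η),
        valPt v c A x hx = stalkForget (c ≫ η) F (gSh (forgetSh F) (c ≫ v.left) hcv b') := fun x hx hcv =>
      congrArg (stalkForget (c ≫ η) F) (gSh_congr (F := forgetSh F) (pullback.lift_fst _ _ _) _ hcv b')
    have hcv : (c ≫ v.left) ≫ V.hom = c ≫ η := (Category.assoc _ _ _).trans (congrArg (c ≫ ·) hvl)
    have hc : (c ≫ constPt f s hs) ≫ nvπ f 0 = c ≫ η :=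
      (Category.assoc _ _ _).trans (congrArg (c ≫ ·) (constPt_base f s hs))
    have hpt : ptU f c v (c ≫ constPt f s hs) hc = c ≫ yV := by
      apply pullback.hom_ext
      · refine (pullback.lift_fst _ _ _).trans (Eq.trans ?_ (Category.assoc _ _ _).symm)
        exact congrArg (c ≫ ·) ((pullback.lift_fst _ _ _).trans (Category.id_comp _)).symm
      · refine (pullback.lift_snd _ _ _).trans (Eq.trans ?_ (Category.assoc _ _ _).symm)
        exact congrArg (c ≫ ·) (pullback.lift_snd _ _ _).symm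
    have hconst : valPt v c A (c ≫ constPt f s hs) hc = valPt v c B (c ≫ constPt f s hs) hc := by
      refine congrArg (stalkForget (c ≫ η) F) ?_
      refine (Secs.mem_eqLocus_iff A B _ _ _).1 ?_
      rw [hpt, Scheme.Hom.comp_apply, Subsingleton.elim (c.base default) default]
      exact hmem
    refine (hA x hx hcv).trans ((hA _ hc hcv).symm.trans (hconst.trans ((hB _ hc).trans ?_)))
    refine Eq.trans ?_ (hB x hx).symm
    rw [valPt_cocycle hs t c φ hφ x hx, Fin.sum_univ_one]
    simp only [Fin.val_zero, pow_zero, one_smul]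
    exact valPt_congr t c φ (consPt_face_one f s hs c x hx 0).symm _ _
  refine ⟨V', e' ≫ e, w, F.obj.map e'.op b', ?_, ?_⟩
  · show e.left.base (e'.left.base w) = _
    rw [hw]
    exact base_fiber_map η e v t hv
  · refine (NatTrans.naturality_apply (coAug f F).hom e'.op b').trans (he.trans ?_)
    exact map_map e e' φ

theorem bijective_coAugCyc_app (U : Y.Etale) :
    Function.Bijective ((coAugCyc f F).hom.app (op U)) := by
  refine ⟨fun a b h => coAug_injective U ((coAugCyc_i U a).symm.trans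
    ((congrArg _ h).trans (coAugCyc_i U b))), fun z => ?_⟩
  let φ : CSec f F 0 U := ((coCx f F).iCycles 0).hom.app (op U) z
  have hφ : ((coCx f F).d 0 1).hom.app (op U) φ = 0 :=
    ConcreteCategory.congr_hom (congrArg (fun r => r.hom.app (op U)) ((coCx f F).iCycles_d 0 1)) z
  obtain ⟨b, hb⟩ := exists_sect (F := forgetSh F) (U := U)
    (fun V g a => (coAug f F).hom.app (op V) a = (coSh f F 0).obj.map g.op φ)
    (fun V V' g k a ha => by
      refine (NatTrans.naturality_apply (coAug f F).hom k.op a).trans ((congrArg _ ha).trans ?_)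
      exact map_map g k φ)
    (fun V g a a' ha ha' => coAug_injective V (ha.trans ha'.symm))
    (fun u => by
      obtain ⟨V, e, w, b, hw, hb⟩ := exists_aug_local φ hφ u
      exact ⟨V, e, w, b, hw, hb⟩)
  refine ⟨b, iCycles_app_injective 0 U ((coAugCyc_i U b).trans (Secs.eq_of_eqLocus _ _ fun z => ?_))⟩
  obtain ⟨V, g, w, hw, hg⟩ := hb ((pullback.fst U.hom (nvπ f 0)).base z)
  obtain ⟨z', hz'⟩ := exists_bc_point (nvπ f 0) g z w hw
  rw [← hz']
  refine (Secs.mem_eqLocus_res _ (a' := ((EtCoh.bc (nvπ f 0)).obj V).hom ≫ nvπ f 0)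
    (Over.w ((Over.map (nvπ f 0)).map ((EtFppf.a (nvX f 0)).map ((EtCoh.bc (nvπ f 0)).map g)))) _ φ z').1 ?_
  have e := (NatTrans.naturality_apply (coAug f F).hom g.op b).symm.trans hg
  exact (Secs.eqLocus_eq_univ e).ge (Set.mem_univ z')

theorem isIso_coAugCyc : IsIso (coAugCyc f F) := by
  have : IsIso ((sheafToPresheaf _ AddCommGrpCat.{u + 1}).map (coAugCyc f F)) := by
    rw [NatTrans.isIso_iff_isIso_app]
    intro U
    exact (ConcreteCategory.isIso_iff_bijective _).2 (bijective_coAugCyc_app U.unop)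
  exact isIso_of_reflects_iso (coAugCyc f F) (sheafToPresheaf _ AddCommGrpCat.{u + 1})

variable (f F) in
/-- The sheaf is the cohomology in degree zero. -/
def coAugIso : F ≅ (coCx f F).homology 0 :=
  haveI := isIso_coAugCyc (f := f) (F := F)
  asIso (coAugCyc f F) ≪≫ CochainComplex.isoHomologyπ₀ (coCx f F)

end GrothLib.EtDesc19
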