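import Groth.Agent.Lib.EtDesc19.IntegralRes
import Groth.Agent.Lib.DescSS19.Res
import Groth.Agent.Lib.EtDer.ExtUnit
import Groth.Agent.Lib.EtSite.PushExact
import Groth.Prelude.Def_EtCore
import Groth.Agent.Lib.GrothSS.HomExt
import Mathlib.CategoryTheory.Abelian.GrothendieckCategory.EnoughInjectives
import Mathlib.Algebra.Homology.GrothendieckAbelian
import Mathlib.CategoryTheory.Preadditive.Yoneda.Limits

/-!
# The descent spectral sequence of a surjective integral morphism in etale cohomology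
-/

set_option autoImplicit false
universe u

open CategoryTheory CategoryTheory.Limits CategoryTheory.Abelian AlgebraicGeometry Opposite
open GrothLib

set_option backward.isDefEq.respectTransparency false

noncomputable section

namespace GrothLib.EtDesc19

variable {X Y : Scheme.{u}}

/-- Cohomology of a direct image along an integral morphism. -/
theorem nonempty_H_push_addEquiv (π : X ⟶ Y) [IsIntegralHom π] (G : EtCoh.Ab X) (n : ℕ) :
    Nonempty (EtCoh.H X G n ≃+ EtCoh.H Y ((EtCoh.push π).obj G) n) := by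
  have := EtSite.pull_preservesFiniteLimits π
  have := EtSite.preservesFiniteColimits_push π
  have : (EtCoh.push π).Additive := (EtCoh.pullPushAdj π).right_adjoint_additive
  have : PreservesLimitsOfSize.{0, 0} (EtCoh.push π) :=
    (EtCoh.pullPushAdj π).rightAdjoint_preservesLimits
  have : PreservesFiniteLimits (EtCoh.push π) := PreservesLimitsOfSize.preservesFiniteLimits _
  exact ⟨((((extFunctor.{u + 1} n).mapIso (EtCore.pullConst π ℤ).op).app G).addCommGroupIsoToAddEquiv).trans
    (AddEquiv.ofBijective _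
      (EtDer.bijective_unitMap (EtCoh.pullPushAdj π) (EtCoh.const Y ℤ) G n))⟩

variable (f : X ⟶ Y) [IsIntegralHom f] [Surjective f] (F : EtCoh.Ab Y)

/-- The spectral sequence. -/
theorem exists_integral (E₁ : ℕ → ℕ → AddCommGrpCat.{u + 1})
    (hE : ∀ p q, Nonempty (E₁ p q ≅
      AddCommGrpCat.of (EtCoh.H (nvX f p) ((EtCoh.pull (nvπ f p)).obj F) q))) :
    ∃ (E : CohomologicalSpectralSequence AddCommGrpCat.{u + 1} 1)
      (a : SpSeq.Abutment E (fun n : ℤ =>
        if 0 ≤ n then AddCommGrpCat.of (EtCoh.H Y F n.toNat) else AddCommGrpCat.of PUnit.{u + 2})),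
      (∀ n, a.IsFinite n) ∧ SpSeq.IsBounded E ∧
      ∀ p q : ℤ, Nonempty ((E.page 1 le_rfl).X (p, q) ≅
        (if 0 ≤ p ∧ 0 ≤ q then E₁ p.toNat q.toNat else AddCommGrpCat.of PUnit.{u + 2})) := by
  have : ∀ p, IsIntegralHom (nvπ f p) := isIntegralHom_nvπ f
  refine DescSS19.exists_of_resolution (GrothSS.homFun (EtCoh.const Y ℤ)) F (coCx f F)
    exactAt_coCx (coAugIso f F) E₁ (fun n => AddCommGrpCat.of (EtCoh.H Y F n))
    (AddCommGrpCat.of PUnit.{u + 2}) (AddCommGrpCat.isZero_of_subsingleton _)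
    (fun n => ⟨((GrothSS.rightDerivedHomFunIso (EtCoh.const Y ℤ) n).app F).symm⟩) (fun p q => ?_)
  obtain ⟨e⟩ := nonempty_H_push_addEquiv (nvπ f p) ((EtCoh.pull (nvπ f p)).obj F) q
  exact ⟨(hE p q).some ≪≫ e.toAddCommGrpIso ≪≫
    ((GrothSS.rightDerivedHomFunIso (EtCoh.const Y ℤ) q).app _).symm ≪≫
    ((GrothSS.homFun (EtCoh.const Y ℤ)).rightDerived q).mapIso (coShIso f F p).symm⟩

end GrothLib.EtDesc19
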